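import Mathlib

/-!
Absorption: `s` acting without fixed points on a finite subgroup `U` is conjugate to every element of `sU`.
-/

set_option autoImplicit false

namespace H31.CSQ

variable {G : Type*} [Group G]

/-- `s` normalises `U` and centralises no nontrivial element of it. -/
structure Absorbs (s : G) (U : Subgroup G) : Prop where
  normal : ∀ u ∈ U, s * u * s⁻¹ ∈ U
  free : ∀ u ∈ U, s * u = u * s → u = 1

theorem Absorbs.exists_conj {s : G} {U : Subgroup G} [Finite U] (h : Absorbs s U) {u : G} (hu : u ∈ U) :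
    IsConj s (u * s) ∧ IsConj s (s * u) := by
  let φ : U → U := fun v => ⟨v.1 * (s * v.1⁻¹ * s⁻¹), U.mul_mem v.2 (h.normal _ (U.inv_mem v.2))⟩
  have hinj : Function.Injective φ := by
    intro v w hvw
    have he : v.1 * (s * v.1⁻¹ * s⁻¹) = w.1 * (s * w.1⁻¹ * s⁻¹) := congrArg Subtype.val hvw
    have h1 : w.1⁻¹ * v.1 * s = s * (w.1⁻¹ * v.1) := by
      calc w.1⁻¹ * v.1 * s = w.1⁻¹ * (v.1 * (s * v.1⁻¹ * s⁻¹)) * (s * v.1) := by group
        _ = s * (w.1⁻¹ * v.1) := by rw [he]; group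
    exact Subtype.ext (inv_mul_eq_one.1 (h.free _ (U.mul_mem (U.inv_mem w.2) v.2) h1.symm)).symm
  have hsurj := Finite.surjective_of_injective hinj
  have main : ∀ u ∈ U, IsConj s (u * s) := by
    intro u hu
    obtain ⟨v, hv⟩ := hsurj ⟨u, hu⟩
    have hv' : v.1 * (s * v.1⁻¹ * s⁻¹) = u := congrArg Subtype.val hv
    exact isConj_iff.2 ⟨v.1, by rw [← hv']; group⟩
  refine ⟨main u hu, ?_⟩
  have := main (s * u * s⁻¹) (h.normal u hu)
  rwa [inv_mul_cancel_right] at this

theorem Absorbs.conj {s : G} {U : Subgroup G} (h : Absorbs s U) {c : G} (hc : ∀ u, u ∈ U ↔ c * u * c⁻¹ ∈ U) :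
    Absorbs (c * s * c⁻¹) U := by
  have key : ∀ u, c⁻¹ * u * c ∈ U ↔ u ∈ U := fun u => by
    rw [hc, show c * (c⁻¹ * u * c) * c⁻¹ = u by group]
  refine ⟨fun u hu => ?_, fun u hu he => ?_⟩
  · have h1 := (hc _).1 (h.normal _ ((key u).2 hu))
    convert h1 using 1
    group
  · have h1 : c⁻¹ * u * c = 1 := h.free _ ((key u).2 hu) (by
      calc s * (c⁻¹ * u * c) = c⁻¹ * (c * s * c⁻¹ * u) * c := by group
        _ = c⁻¹ * (u * (c * s * c⁻¹)) * c := by rw [he]
        _ = _ := by group)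
    calc u = c * (c⁻¹ * u * c) * c⁻¹ := by group
      _ = 1 := by rw [h1]; group

/-- An element `l·a·b·u` is a product of a conjugate of `a` and a conjugate of `b`. -/
theorem exists_product {V U : Subgroup G} [Finite V] [Finite U] {a b : G} (ha : Absorbs a V) (hb : Absorbs b U)
    {l u : G} (hl : l ∈ V) (hu : u ∈ U) :
    ∃ x y, IsConj a x ∧ IsConj b y ∧ l * (a * b) * u = x * y :=
  ⟨l * a, b * u, (ha.exists_conj hl).1, (hb.exists_conj hu).2, by group⟩

end H31.CSQ
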