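import Cfsg.Agent.H41.RegFactor
import Cfsg.Agent.S2522

/-!
A unimodular matrix as a product of a conjugate of `(μ) ⊕ λJ` and one of its inverse.
-/

set_option autoImplicit false
set_option linter.style.haveILetI false

namespace H31.CSQ

open Matrix H41 H41.Reg

variable {K : Type*} [Field K] {n : ℕ}

/-- Similarity of square matrices. -/
def Sim (X Y : Matrix (Fin n) (Fin n) K) : Prop :=
  ∃ P : Matrix (Fin n) (Fin n) K, IsUnit P.det ∧ X * P = P * Y

theorem Sim.refl (X : Matrix (Fin n) (Fin n) K) : Sim X X := ⟨1, by simp, by simp⟩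

theorem Sim.trans {X Y Z : Matrix (Fin n) (Fin n) K} (h : Sim X Y) (h' : Sim Y Z) : Sim X Z := by
  obtain ⟨P, hP, he⟩ := h
  obtain ⟨Q, hQ, he'⟩ := h'
  exact ⟨P * Q, by rw [det_mul]; exact hP.mul hQ, by
    rw [← Matrix.mul_assoc, he, Matrix.mul_assoc, he', Matrix.mul_assoc]⟩

theorem Sim.symm {X Y : Matrix (Fin n) (Fin n) K} (h : Sim X Y) : Sim Y X := by
  obtain ⟨P, hP, he⟩ := h
  refine ⟨P⁻¹, isUnit_nonsing_inv_det _ hP, ?_⟩
  calc Y * P⁻¹ = P⁻¹ * (P * Y) * P⁻¹ := by rw [← Matrix.mul_assoc, nonsing_inv_mul _ hP, Matrix.one_mul]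
    _ = P⁻¹ * X := by
      rw [← he, ← Matrix.mul_assoc, Matrix.mul_assoc (P⁻¹ * X) P, mul_nonsing_inv _ hP, Matrix.mul_one]

theorem Sim.conj_both {M X Y X' Y' : Matrix (Fin n) (Fin n) K} (h : Sim M (X * Y)) (hX : Sim X X')
    (hY : Sim Y Y') : ∃ A B, Sim A X' ∧ Sim B Y' ∧ M = A * B := by
  obtain ⟨P, hP, he⟩ := h
  refine ⟨P * X * P⁻¹, P * Y * P⁻¹, Sim.trans ⟨P, hP, ?_⟩ hX, Sim.trans ⟨P, hP, ?_⟩ hY, ?_⟩
  · rw [Matrix.mul_assoc, nonsing_inv_mul _ hP, Matrix.mul_one]
  · rw [Matrix.mul_assoc, nonsing_inv_mul _ hP, Matrix.mul_one]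
  · calc M = P * (X * Y) * P⁻¹ := by rw [← he, Matrix.mul_assoc, mul_nonsing_inv _ hP, Matrix.mul_one]
      _ = P * X * (P⁻¹ * P) * (Y * P⁻¹) := by
        rw [nonsing_inv_mul _ hP, Matrix.mul_one]; simp only [Matrix.mul_assoc]
      _ = _ := by simp only [Matrix.mul_assoc]

theorem Sim.smul {X Y : Matrix (Fin n) (Fin n) K} (h : Sim X Y) (a : K) : Sim (a • X) (a • Y) := by
  obtain ⟨P, hP, he⟩ := h
  exact ⟨P, hP, by rw [Matrix.smul_mul, he, Matrix.mul_smul]⟩

theorem jordan_det : (jordan K n).det = 1 := by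
  rw [Matrix.det_of_upperTriangular (fun i j h => (jordan_reg (K := K)).1.1 i j h)]
  exact Finset.prod_eq_one fun i _ => (jordan_reg (K := K)).1.2 i

theorem reg_upper_sim {U : Matrix (Fin n) (Fin n) K} (hU : IsRegUpper U) : Sim U (jordan K n) := by
  rcases Nat.eq_zero_or_pos n with rfl | hn
  · exact ⟨1, by simp, Subsingleton.elim _ _⟩
  · exact conj_jordan_upper hn hU

theorem jordan_inv_sim : Sim (jordan K n)⁻¹ (jordan K n) := by
  set J := jordan K n with hJdef
  have hJu : IsUnit J.det := by rw [hJdef, jordan_det]; exact isUnit_one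
  haveI := J.invertibleOfIsUnitDet hJu
  have hJt : J.BlockTriangular id := fun i j h => (jordan_reg (K := K)).1.1 i j h
  have hBt : J⁻¹.BlockTriangular id := Matrix.blockTriangular_inv_of_blockTriangular hJt
  set B := J⁻¹
  have hJB : J * B = 1 := mul_nonsing_inv _ hJu
  have hdiag : ∀ i, B i i = 1 := by
    intro i
    have h1 := congrFun (congrFun hJB i) i
    rw [Matrix.mul_apply, Finset.sum_eq_single i] at h1
    · rwa [show J i i = 1 from (jordan_reg (K := K)).1.2 i, one_mul, Matrix.one_apply_eq] at h1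
    · intro l _ hl
      rcases lt_or_gt_of_ne hl with h | h
      · rw [hJt h, zero_mul]
      · rw [hBt h, mul_zero]
    · simp
  refine reg_upper_sim ⟨⟨fun i j h => hBt h, hdiag⟩, fun i j hij => ?_⟩
  have hne : i ≠ j := fun e => by rw [e] at hij; omega
  have h1 := congrFun (congrFun hJB i) j
  rw [Matrix.mul_apply, ← Finset.sum_subset (s₁ := {i, j}) (Finset.subset_univ _)] at h1
  · rw [Finset.sum_pair hne, hdiag j, Matrix.one_apply_ne hne] at h1
    intro h0
    rw [h0, mul_zero, zero_add, mul_one] at h1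
    exact (jordan_reg (K := K)).2 i j hij h1
  · intro l _ hl
    simp only [Finset.mem_insert, Finset.mem_singleton, not_or] at hl
    rcases lt_or_gt_of_ne hl.1 with h | h
    · rw [hJt h, zero_mul]
    · have : ¬ l.val = i.val + 1 := fun e => hl.2 (Fin.ext (by omega))
      simp [J, jordan, Ne.symm hl.1, this]

variable [Fintype K]

theorem upper_two_pair (h4 : 4 ≤ Fintype.card K) {U : Matrix (Fin 2) (Fin 2) K}
    (hU : IsUpperWith (fun _ => 1) U) :
    ∃ A B : Matrix (Fin 2) (Fin 2) K, IsRegUpper A ∧ IsRegUpper B ∧ A * B = U := by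
  classical
  obtain ⟨a, ha⟩ : ∃ a : K, a ∉ ({0, U 0 1} : Finset K) := by
    by_contra h
    push Not at h
    have : Fintype.card K ≤ ({0, U 0 1} : Finset K).card := Finset.card_le_card (fun x _ => h x)
    have := this.trans Finset.card_le_two
    omega
  simp only [Finset.mem_insert, Finset.mem_singleton, not_or] at ha
  have key : ∀ b : K, b ≠ 0 → IsRegUpper (!![1, b; 0, 1] : Matrix (Fin 2) (Fin 2) K) := by
    intro b hb
    refine ⟨⟨fun i j h => ?_, fun i => ?_⟩, fun i j h => ?_⟩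
    · fin_cases i <;> fin_cases j <;> simp_all
    · fin_cases i <;> simp
    · fin_cases i <;> fin_cases j <;> simp_all
  refine ⟨_, _, key a ha.1, key (U 0 1 - a) (sub_ne_zero.2 (Ne.symm ha.2)), ?_⟩
  ext i j
  fin_cases i <;> fin_cases j <;> simp [Matrix.mul_apply, Fin.sum_univ_two]
  · exact (hU.2 0).symm
  · exact (hU.1 1 0 (by decide)).symm
  · exact (hU.2 1).symm

theorem jordan_pair (h4 : 4 ≤ Fintype.card K) {N : Matrix (Fin n) (Fin n) K} (hdet : N.det = 1)
    (hN : n ≤ 1 ∨ (∀ c : K, N ≠ c • 1) ∨ N = 1) :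
    ∃ X Y, Sim X (jordan K n) ∧ Sim Y (jordan K n) ∧ N = X * Y := by
  classical
  by_cases h1 : N = 1
  · exact ⟨jordan K n, (jordan K n)⁻¹, Sim.refl _, jordan_inv_sim, by
      rw [h1, mul_nonsing_inv _ (by rw [jordan_det]; exact isUnit_one)]⟩
  have hns : ∀ c : K, N ≠ c • 1 := by
    rcases hN with h | h | h
    · refine absurd ?_ h1
      rcases n with _ | _ | n
      · exact Subsingleton.elim _ _
      · ext i j
        obtain rfl := Subsingleton.elim (α := Fin 1) i 0
        obtain rfl := Subsingleton.elim (α := Fin 1) j 0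
        simpa [Matrix.det_fin_one] using hdet
      · omega
    · exact h
    · exact absurd h h1
  rcases n with _ | _ | _ | n
  · exact absurd (Subsingleton.elim _ _) h1
  · refine absurd ?_ h1
    ext i j
    obtain rfl := Subsingleton.elim (α := Fin 1) i 0
    obtain rfl := Subsingleton.elim (α := Fin 1) j 0
    simpa [Matrix.det_fin_one] using hdet
  · obtain ⟨P, hP, L, U, hL, hU, he⟩ := exists_tri_factor 2 N (Or.inr hns) (fun _ => 1) (fun _ => 1)
      (fun _ => one_ne_zero) (fun _ => one_ne_zero) (by simp [hdet])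
    have hreg : ∀ V : Matrix (Fin 2) (Fin 2) K, IsUpperWith (fun _ => 1) V → V 0 1 ≠ 0 → IsRegUpper V :=
      fun V hV h0 => ⟨hV, fun i j h => by fin_cases i <;> fin_cases j <;> simp_all⟩
    by_cases hl : L 1 0 = 0
    · have hL1 : L = 1 := by
        ext i j
        fin_cases i <;> fin_cases j
        · simpa using hL.2 0
        · simpa using hL.1 0 1 (by decide)
        · simpa using hl
        · simpa using hL.2 1
      obtain ⟨A, B, hA, hB, hAB⟩ := upper_two_pair h4 hU
      exact Sim.conj_both ⟨P, hP, by rw [he, hL1, Matrix.one_mul, hAB]⟩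
        (reg_upper_sim hA) (reg_upper_sim hB)
    have hLreg : IsRegLower L := ⟨hL, fun i j h => by fin_cases i <;> fin_cases j <;> simp_all⟩
    by_cases hu : U 0 1 = 0
    · have hU1 : U = 1 := by
        ext i j
        fin_cases i <;> fin_cases j
        · simpa using hU.2 0
        · simpa using hu
        · simpa using hU.1 1 0 (by decide)
        · simpa using hU.2 1
      have hLt : IsUpperWith (fun _ => 1) Lᵀ := ⟨fun i j h => hL.1 j i h, fun i => hL.2 i⟩
      obtain ⟨A, B, hA, hB, hAB⟩ := upper_two_pair h4 hLt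
      have hlow : ∀ A : Matrix (Fin 2) (Fin 2) K, IsRegUpper A → Sim Aᵀ (jordan K 2) := fun A hA =>
        conj_jordan_lower (by omega) ⟨⟨fun i j h => hA.1.1 j i h, fun i => hA.1.2 i⟩, fun i j h => hA.2 j i h⟩
      exact Sim.conj_both ⟨P, hP, by
        rw [he, hU1, Matrix.mul_one, ← Matrix.transpose_mul, hAB, Matrix.transpose_transpose]⟩
        (hlow B hB) (hlow A hA)
    exact Sim.conj_both ⟨P, hP, he⟩ (conj_jordan_lower (by omega) hLreg) (reg_upper_sim (hreg U hU hu))
  · let J : GL (Fin (n + 3)) K :=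
      ((Matrix.isUnit_iff_isUnit_det (jordan K (n + 3))).2 (by rw [jordan_det]; exact isUnit_one)).unit
    let g : GL (Fin (n + 3)) K := ((Matrix.isUnit_iff_isUnit_det N).2 (by rw [hdet]; exact isUnit_one)).unit
    obtain ⟨x, y, hxy⟩ := Cfsg.Agent.S2522.result (by rw [Cardinal.mk_fintype]; exact_mod_cast h4) (n + 3)
      (by omega) J g (fun i j => rfl) (fun ⟨c, hc⟩ => hns c hc) hdet
    refine ⟨(x * J * x⁻¹).val, (y * J * y⁻¹).val, ⟨x.val, x.isUnit.map Matrix.detMonoidHom, ?_⟩,
      ⟨y.val, y.isUnit.map Matrix.detMonoidHom, ?_⟩, congrArg Units.val hxy⟩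
    · rw [← Units.val_mul, inv_mul_cancel_right]; rfl
    · rw [← Units.val_mul, inv_mul_cancel_right]; rfl

omit [Fintype K]

theorem det_smul_jordan_sub {a b : K} : (a • jordan K n - b • 1).det = (a - b) ^ n := by
  rw [Matrix.det_of_upperTriangular (fun i j h => by
    simp [(jordan_reg (K := K)).1.1 i j h, Matrix.one_apply_ne (show i ≠ j from fun e => by subst e; exact lt_irrefl _ h)])]
  rw [Finset.prod_eq_pow_card (b := a - b) (fun i _ => by simp [(jordan_reg (K := K)).1.2 i])]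
  simp

theorem sub_det_ne {a b : K} (hab : a ≠ b) {X : Matrix (Fin n) (Fin n) K} (h : Sim X (a • jordan K n)) :
    IsUnit (X - b • 1).det := by
  obtain ⟨P, hP, he⟩ := h
  have : (X - b • 1) * P = P * (a • jordan K n - b • 1) := by
    rw [Matrix.sub_mul, Matrix.mul_sub, he]; simp
  have h2 := congrArg Matrix.det this
  rw [det_mul, det_mul, mul_comm, det_smul_jordan_sub] at h2
  rw [mul_left_cancel₀ hP.ne_zero h2]
  exact (Ne.isUnit (sub_ne_zero.2 hab)).pow n

theorem sim_border {a : K} {X Y : Matrix (Fin n) (Fin n) K} (h : Sim X Y) :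
    Sim (border a 0 0 X) (border a 0 0 Y) := by
  obtain ⟨P, hP, he⟩ := h
  refine ⟨border 1 0 0 P, by rw [det_border_zero_col, one_mul]; exact hP, ?_⟩
  rw [border_mul, border_mul]
  congr 1 <;> simp [he]

theorem sim_lower {a : K} {X : Matrix (Fin n) (Fin n) K} (hu : IsUnit (X - a • 1).det) (c : Fin n → K) :
    Sim (border a 0 c X) (border a 0 0 X) := by
  refine ⟨border 1 0 (-((X - a • 1)⁻¹ *ᵥ c)) 1, by simp [det_border_zero_row], ?_⟩
  set w := (X - a • 1)⁻¹ *ᵥ c with hw
  have hc : X *ᵥ w - a • w = c := by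
    have : (X - a • 1) *ᵥ w = c := by rw [hw, mulVec_mulVec, mul_nonsing_inv _ hu, one_mulVec]
    rwa [sub_mulVec, smul_mulVec, one_mulVec] at this
  rw [border_mul, border_mul]
  congr 1
  · simp
  · simp
  · rw [one_smul, mulVec_neg, ← hc]
    simp only [one_mulVec, mulVec_neg, smul_neg, smul_zero]
    abel
  · simp

theorem sim_upper {a : K} {X : Matrix (Fin n) (Fin n) K} (hu : IsUnit (X - a • 1).det) (r : Fin n → K) :
    Sim (border a r 0 X) (border a 0 0 X) := by
  refine ⟨border 1 (r ᵥ* (X - a • 1)⁻¹) 0 1, by simp [det_border_zero_col], ?_⟩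
  set w := r ᵥ* (X - a • 1)⁻¹ with hw
  have hc : w ᵥ* X - a • w = r := by
    have : w ᵥ* (X - a • 1) = r := by rw [hw, vecMul_vecMul, nonsing_inv_mul _ hu, vecMul_one]
    rwa [vecMul_sub, vecMul_smul, vecMul_one] at this
  rw [border_mul, border_mul]
  congr 1
  · simp
  · rw [vecMul_one, ← hc]
    simp only [one_smul, smul_zero]
    abel
  · simp
  · simp

/-- The block `(μ) ⊕ λJ`. -/
def blk (lam mu : K) (n : ℕ) : Matrix (Fin (n + 1)) (Fin (n + 1)) K := border mu 0 0 (lam • jordan K n)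

theorem blk_det (lam mu : K) (n : ℕ) : (blk lam mu n).det = mu * lam ^ n := by
  rw [blk, det_border_zero_col, det_smul, jordan_det, mul_one, Fintype.card_fin]

variable [Fintype K]

/-- **The block lemma.** -/
theorem block_pair (h4 : 4 ≤ Fintype.card K) {lam mu : K} (hl : lam ≠ 0) (hm : mu ≠ 0) (hlm : lam ≠ mu)
    {M : Matrix (Fin (n + 1)) (Fin (n + 1)) K} (hdet : M.det = 1) (hM : (∀ c : K, M ≠ c • 1) ∨ M = 1) :
    ∃ X Y, Sim X (blk lam mu n) ∧ Sim Y (blk lam⁻¹ mu⁻¹ n) ∧ M = X * Y := by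
  classical
  have hfin : ∀ N : Matrix (Fin n) (Fin n) K, ∀ X Y, Sim X (jordan K n) → Sim Y (jordan K n) → N = X * Y →
      ∀ r c : Fin n → K, ∃ A B, Sim A (blk lam mu n) ∧ Sim B (blk lam⁻¹ mu⁻¹ n) ∧
        border 1 r c (N + vecMulVec c r) = A * B := by
    intro N X Y hX hY hN r c
    refine ⟨border mu 0 (mu • c) (lam • X), border mu⁻¹ (mu⁻¹ • r) 0 (lam⁻¹ • Y),
      (sim_lower (sub_det_ne hlm (hX.smul lam)) _).trans (sim_border (hX.smul lam)),
      (sim_upper (sub_det_ne (fun e => hlm (inv_injective e)) (hY.smul lam⁻¹)) _).trans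
        (sim_border (hY.smul lam⁻¹)), ?_⟩
    rw [border_mul]
    congr 1
    · simp [hm]
    · simp [smul_smul, hm]
    · simp [smul_smul, hm]
    · rw [hN, Matrix.smul_vecMulVec, Matrix.vecMulVec_smul, smul_smul, mul_inv_cancel₀ hm, one_smul,
        Matrix.smul_mul, Matrix.mul_smul, smul_smul, mul_inv_cancel₀ hl, one_smul, add_comm]
  rcases hM with hM | rfl
  · rcases Nat.eq_zero_or_pos n with rfl | hn
    · refine absurd ?_ (hM 1)
      ext i j
      obtain rfl := Subsingleton.elim (α := Fin 1) i 0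
      obtain rfl := Subsingleton.elim (α := Fin 1) j 0
      simpa [Matrix.det_fin_one] using hdet
    obtain ⟨k, rfl⟩ : ∃ k, n = k + 1 := ⟨n - 1, by omega⟩
    obtain ⟨P, hP, r, c, M', he, hgood⟩ := exists_good_border hM (by rw [hdet]; exact one_ne_zero) 1 one_ne_zero
    simp only [inv_one, one_smul] at hgood
    set N := M' - vecMulVec c r with hN
    have hM' : M' = N + vecMulVec c r := by rw [hN, sub_add_cancel]
    have hdN : N.det = 1 := by
      have hd := congrArg Matrix.det he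
      have hfac : border 1 r c M' = border 1 0 c 1 * border 1 r 0 N := by
        rw [border_mul, hM']
        congr 1 <;> simp [add_comm]
      rw [det_mul, det_mul, hfac, det_mul, det_border_zero_row, det_border_zero_col, det_one, hdet,
        mul_comm P.det] at hd
      have := mul_right_cancel₀ hP.ne_zero hd
      simpa using this.symm
    obtain ⟨X, Y, hX, hY, hXY⟩ := jordan_pair h4 hdN (hgood.elim (fun h => Or.inl (by omega))
      (fun h => Or.inr (Or.inl h)))
    obtain ⟨A, B, hA, hB, hAB⟩ := hfin N X Y hX hY hXY r c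
    exact Sim.conj_both ⟨P, hP, by rw [he, hM', hAB]⟩ hA hB
  · obtain ⟨X, Y, hX, hY, hXY⟩ := jordan_pair h4 (N := (1 : Matrix (Fin n) (Fin n) K)) det_one
      (Or.inr (Or.inr rfl))
    obtain ⟨A, B, hA, hB, hAB⟩ := hfin 1 X Y hX hY hXY 0 0
    exact ⟨A, B, hA, hB, by rw [← hAB, vecMulVec_zero, add_zero, border_one]⟩

end H31.CSQ
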