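import Mathlib

/-!
Shears `A ↦ A + K C` with `K` of a prescribed symmetry making `A` invertible.
-/

set_option autoImplicit false

namespace H31.CSQ

open Matrix

variable {F : Type*} [Field F] [DecidableEq F] {l : Type*} [Fintype l] [DecidableEq l]

/-- The diagonal core: prescribe the support block of `A + K D`. -/
theorem shear_diag {A : Matrix l l F} {d : l → F} (R : Matrix l l F)
    (hker : ∀ x, A *ᵥ x = 0 → (∀ i, d i * x i = 0) → x = 0)
    (hzero : ∀ i j, d i ≠ 0 → d j = 0 → A i j = 0)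
    (hR0 : ∀ i j, d j = 0 → d i ≠ 0 → R i j = 0)
    (hR : ∀ x : l → F, (∀ i, d i ≠ 0 → (R *ᵥ x) i = 0) → ∀ i, d i ≠ 0 → x i = 0) :
    IsUnit (A + (Matrix.of fun i j => if d i ≠ 0 ∧ d j ≠ 0 then (R i j - A i j * d i) / (d i * d j) else 0) *
      diagonal d).det := by
  set K : Matrix l l F := Matrix.of fun i j => if d i ≠ 0 ∧ d j ≠ 0 then (R i j - A i j * d i) / (d i * d j) else 0
    with hK
  have hrow : ∀ i j, d i ≠ 0 → (A + K * diagonal d) i j = R i j / d i := by
    intro i j hi
    rw [Matrix.add_apply, mul_diagonal, hK, of_apply]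
    by_cases hj : d j = 0
    · simp [hj, hzero i j hi hj, hR0 i j hj hi]
    · rw [if_pos ⟨hi, hj⟩]
      field_simp
      ring
  have hrow0 : ∀ i, d i = 0 → ∀ j, (A + K * diagonal d) i j = A i j := by
    intro i hi j
    simp [mul_diagonal, hK, hi]
  refine mulVec_injective_iff_isUnit.trans (isUnit_iff_isUnit_det _) |>.1 fun x y hxy => ?_
  rw [← sub_eq_zero]
  have hz : (A + K * diagonal d) *ᵥ (x - y) = 0 := by rw [mulVec_sub]; exact sub_eq_zero.2 hxy
  set z := x - y
  have hs : ∀ i, d i ≠ 0 → z i = 0 := hR z fun i hi => by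
    have h1 := congrFun hz i
    simp only [mulVec, dotProduct, Pi.zero_apply] at h1 ⊢
    rw [Finset.sum_congr rfl (fun j _ => by rw [hrow i j hi])] at h1
    rw [← div_eq_zero_iff.trans (or_iff_left hi), Finset.sum_div]
    rw [← h1]
    exact Finset.sum_congr rfl fun j _ => by ring
  refine hker z (funext fun i => ?_) fun i => ?_
  · by_cases hi : d i = 0
    · have h1 := congrFun hz i
      simp only [mulVec, dotProduct, Pi.zero_apply] at h1 ⊢
      rw [← h1]
      exact Finset.sum_congr rfl fun j _ => by rw [hrow0 i hi j]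
    · simp only [mulVec, dotProduct, Pi.zero_apply]
      refine Finset.sum_eq_zero fun j _ => ?_
      by_cases hj : d j = 0
      · rw [hzero i j hi hj, zero_mul]
      · rw [hs j hj, mul_zero]
  · by_cases hi : d i = 0
    · rw [hi, zero_mul]
    · rw [hs i hi, mul_zero]

theorem exists_diag (C : Matrix l l F) :
    ∃ P Q : Matrix l l F, IsUnit P.det ∧ IsUnit Q.det ∧ ∃ d, P * C * Q = diagonal d := by
  obtain ⟨L, L', d, h⟩ := Matrix.Pivot.exists_list_transvec_mul_mul_list_transvec_eq_diagonal C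
  exact ⟨_, _, by simp [TransvectionStruct.det_toMatrix_prod], by simp [TransvectionStruct.det_toMatrix_prod],
    d, h⟩

theorem shear_of_diag {A C P Q K : Matrix l l F} (hP : IsUnit P.det) (hQ : IsUnit Q.det)
    (h : IsUnit (P⁻¹ᵀ * A * Q + K * (P * C * Q)).det) : IsUnit (A + Pᵀ * K * P * C).det := by
  have e : P⁻¹ᵀ * A * Q + K * (P * C * Q) = P⁻¹ᵀ * (A + Pᵀ * K * P * C) * Q := by
    have h1 : P⁻¹ᵀ * Pᵀ = 1 := by rw [← transpose_mul, mul_nonsing_inv _ hP, transpose_one]
    rw [Matrix.mul_add, Matrix.add_mul]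
    congr 1
    calc K * (P * C * Q) = (P⁻¹ᵀ * Pᵀ) * K * P * C * Q := by rw [h1, Matrix.one_mul]; simp only [Matrix.mul_assoc]
      _ = _ := by simp only [Matrix.mul_assoc]
  rw [e, det_mul, det_mul] at h
  exact isUnit_of_mul_isUnit_right (isUnit_of_mul_isUnit_left h)

theorem transport {A C P Q : Matrix l l F} (hP : IsUnit P.det) :
    (P⁻¹ᵀ * A * Q)ᵀ * (P * C * Q) = Qᵀ * (Aᵀ * C) * Q := by
  have h1 : P⁻¹ * P = 1 := nonsing_inv_mul _ hP
  simp only [transpose_mul, transpose_transpose, Matrix.mul_assoc]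
  rw [← Matrix.mul_assoc P⁻¹ P, h1, Matrix.one_mul]

theorem transport_ker {A C P Q : Matrix l l F} (hP : IsUnit P.det) (hQ : IsUnit Q.det)
    (hker : ∀ x, A *ᵥ x = 0 → C *ᵥ x = 0 → x = 0) {x : l → F} (h1 : (P⁻¹ᵀ * A * Q) *ᵥ x = 0)
    (h2 : (P * C * Q) *ᵥ x = 0) : x = 0 := by
  have hPu : IsUnit P⁻¹ᵀ.det := by rw [det_transpose]; exact isUnit_nonsing_inv_det _ hP
  have e0 : ∀ (M : Matrix l l F), IsUnit M.det → ∀ y, M *ᵥ y = 0 → y = 0 := fun M hM y hy =>
    mulVec_injective_iff_isUnit.2 ((isUnit_iff_isUnit_det M).2 hM) (by rw [hy, mulVec_zero])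
  rw [Matrix.mul_assoc, ← mulVec_mulVec, ← mulVec_mulVec] at h1 h2
  exact e0 Q hQ x (hker _ (e0 _ hPu _ h1) (e0 P hP _ h2))

/-- Symmetric shear. -/
theorem exists_sym_shear {A C : Matrix l l F} (hker : ∀ x, A *ᵥ x = 0 → C *ᵥ x = 0 → x = 0)
    (hsym : (Aᵀ * C).IsSymm) : ∃ K : Matrix l l F, K.IsSymm ∧ IsUnit (A + K * C).det := by
  obtain ⟨P, Q, hP, hQ, d, hd⟩ := exists_diag C
  set A' := P⁻¹ᵀ * A * Q with hA'
  have hs : ∀ i j, A' j i * d j = A' i j * d i := by
    have h1 : (A'ᵀ * diagonal d).IsSymm := by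
      rw [hA', ← hd, transport hP]
      exact Matrix.IsSymm.ext fun i j => congrFun (congrFun (show (Qᵀ * (Aᵀ * C) * Q)ᵀ = Qᵀ * (Aᵀ * C) * Q by
        simp only [transpose_mul, transpose_transpose, Matrix.mul_assoc]
        rw [← Matrix.mul_assoc Cᵀ A Q, show Cᵀ * A = (Aᵀ * C)ᵀ by rw [transpose_mul, transpose_transpose],
          hsym.eq, Matrix.mul_assoc]) i) j
    intro i j
    have := h1.apply j i
    simpa [mul_diagonal] using this
  have hd2 : ∀ x, diagonal d *ᵥ x = 0 ↔ ∀ i, d i * x i = 0 := fun x => by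
    simp [funext_iff, mulVec_diagonal]
  let R : Matrix l l F := Matrix.of fun i j => if i = j ∧ d i ≠ 0 then 1 else 0
  have hu := shear_diag (A := A') (d := d) R
    (fun x h1 h2 => transport_ker hP hQ hker h1 (by rw [hd]; exact (hd2 x).2 h2))
    (fun i j hi hj => by
      have := hs i j
      rw [hj, mul_zero] at this
      exact (mul_eq_zero.1 this.symm).resolve_right hi)
    (fun i j hj hi => by
      have : i ≠ j := fun e => hi (e ▸ hj)
      simp [R, this])
    (fun x hx i hi => by simpa [R, mulVec, dotProduct, hi] using hx i hi)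
  refine ⟨_, ?_, shear_of_diag hP hQ (K := _) (hd ▸ hu)⟩
  unfold Matrix.IsSymm
  rw [transpose_mul, transpose_mul, transpose_transpose, Matrix.mul_assoc]
  congr 2
  ext i j
  simp only [transpose_apply, of_apply, R]
  by_cases hij : i = j
  · subst hij; rfl
  · by_cases h : d i ≠ 0 ∧ d j ≠ 0
    · rw [if_pos ⟨h.2, h.1⟩, if_pos h, if_neg (fun e => hij e.1.symm), if_neg (fun e => hij e.1), hs i j,
        mul_comm (d j) (d i)]
    · rw [if_neg (fun e => h ⟨e.2, e.1⟩), if_neg h]

/-- The quadratic value of a skew matrix with zero diagonal. -/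
theorem alt_quad {M : Matrix l l F} (hskew : ∀ i j, M j i = -M i j) (hdiag : ∀ i, M i i = 0) (y : l → F) :
    y ⬝ᵥ (M *ᵥ y) = 0 := by
  simp only [dotProduct, mulVec, Finset.mul_sum]
  rw [← Finset.sum_product']
  refine Finset.sum_involution (fun p _ => (p.2, p.1)) ?_ ?_ (fun p _ => Finset.mem_univ _) (fun p _ => rfl)
  · rintro ⟨i, j⟩ -
    simp only [hskew i j]
    ring
  · rintro ⟨i, j⟩ - h e
    obtain rfl : j = i := congrArg Prod.fst e
    simp [hdiag] at h

/-- An invertible matrix on `Fin r` whose quadratic form is minus a square, zero for even `r`. -/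
theorem exists_pairing (r : ℕ) : ∃ (R : Matrix (Fin r) (Fin r) F) (e : Fin r → F),
    (∀ x, R *ᵥ x = 0 → x = 0) ∧ (∀ y, y ⬝ᵥ (R *ᵥ y) = -(e ⬝ᵥ y) ^ 2) ∧ (Even r → e = 0) := by
  let R0 : Matrix (Fin r) (Fin r) F := Matrix.of fun k j =>
    if k.val % 2 = 0 ∧ j.val = k.val + 1 then 1 else if j.val % 2 = 0 ∧ k.val = j.val + 1 then -1 else 0
  let e : Fin r → F := fun k => if k.val % 2 = 0 ∧ k.val + 1 = r then 1 else 0
  refine ⟨R0 - diagonal e, e, fun x hx => ?_, fun y => ?_, fun he => funext fun k => ?_⟩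
  · funext k
    rw [Pi.zero_apply]
    rcases Nat.mod_two_eq_zero_or_one k.val with hk | hk
    · by_cases hlast : k.val + 1 = r
      · have h := congrFun hx k
        simp only [mulVec, dotProduct, Pi.zero_apply] at h
        rw [Finset.sum_eq_single k] at h
        · simpa [R0, e, hk, hlast, show k.val ≠ r by omega] using h
        · intro j _ hj
          have hj' : j.val ≠ k.val := fun c => hj (Fin.ext c)
          simp [R0, diagonal_apply_ne _ (Ne.symm hj), show ¬ j.val = k.val + 1 by omega,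
            show ¬ (j.val % 2 = 0 ∧ k.val = j.val + 1) by omega]
        · simp
      · let k' : Fin r := ⟨k.val + 1, by omega⟩
        have h := congrFun hx k'
        simp only [mulVec, dotProduct, Pi.zero_apply] at h
        rw [Finset.sum_eq_single k] at h
        · have hne : k' ≠ k := fun c => by simp [k', Fin.ext_iff] at c
          simpa [R0, e, k', diagonal_apply_ne _ hne, hk, show ¬ ((k.val + 1) % 2 = 0 ∧ k.val = k.val + 1 + 1) by omega,
            show ¬ k.val = k.val + 1 + 1 by omega] using h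
        · intro j _ hj
          have hj' : j.val ≠ k.val := fun c => hj (Fin.ext c)
          by_cases hjk : k' = j
          · subst hjk
            simp [R0, e, k', show ¬ (k.val + 1) % 2 = 0 by omega]
          · have : j.val ≠ k.val + 1 := fun c => hjk (Fin.ext c.symm)
            simp [R0, diagonal_apply_ne _ hjk, k', show ¬ (k.val + 1) % 2 = 0 by omega,
              show ¬ (j.val % 2 = 0 ∧ k.val = j.val) by omega]
        · simp
    · let k' : Fin r := ⟨k.val - 1, by omega⟩
      have h := congrFun hx k'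
      simp only [mulVec, dotProduct, Pi.zero_apply] at h
      rw [Finset.sum_eq_single k] at h
      · have hne : k' ≠ k := fun c => by simp [k', Fin.ext_iff] at c; omega
        simpa [R0, e, k', diagonal_apply_ne _ hne, show (k.val - 1) % 2 = 0 by omega,
          show k.val - 1 + 1 = k.val by omega] using h
      · intro j _ hj
        have hj' : j.val ≠ k.val := fun c => hj (Fin.ext c)
        by_cases hjk : k' = j
        · subst hjk
          simp [R0, e, k', show ¬ k.val - 1 + 1 = r by omega]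
        · simp [R0, diagonal_apply_ne _ hjk, k', show ¬ j.val = k.val - 1 + 1 by omega]
          intros; omega
      · simp
  · have h0 : y ⬝ᵥ (R0 *ᵥ y) = 0 := alt_quad (fun i j => by
      simp only [R0, of_apply]
      by_cases h1 : i.val % 2 = 0 ∧ j.val = i.val + 1
      · rw [if_pos h1, if_neg (by omega), if_pos h1]
      · by_cases h2 : j.val % 2 = 0 ∧ i.val = j.val + 1
        · rw [if_pos h2, if_neg h1, if_pos h2, neg_neg]
        · rw [if_neg h2, if_neg h1, if_neg h1, if_neg h2, neg_zero]) (fun i => by simp [R0]) y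
    rw [sub_mulVec, dotProduct_sub, h0, zero_sub, neg_inj]
    rcases Nat.eq_zero_or_pos r with rfl | hr
    · simp [dotProduct]
    let k : Fin r := ⟨r - 1, by omega⟩
    simp only [dotProduct, mulVec_diagonal]
    have hz : ∀ j : Fin r, j ≠ k → e j = 0 := fun j hj => by
      have : j.val ≠ r - 1 := fun c => hj (Fin.ext c)
      simp [e, show ¬ j.val + 1 = r by omega]
    rw [Finset.sum_eq_single k (fun j _ hj => by simp [hz j hj]) (by simp),
      Finset.sum_eq_single k (fun j _ hj => by simp [hz j hj]) (by simp)]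
    by_cases hk : k.val % 2 = 0 ∧ k.val + 1 = r
    · simp [e, hk, sq]
    · simp [e, hk]
  · obtain ⟨t, ht⟩ := he
    simp [e, show ¬ (k.val % 2 = 0 ∧ k.val + 1 = r) by omega]

/-- The kernel of `C` is orthogonal to `w`, so `w` is a combination of the rows of `C`. -/
theorem exists_kill {A C : Matrix l l F} {w : l → F} (hq : ∀ x, (A *ᵥ x) ⬝ᵥ (C *ᵥ x) = -(w ⬝ᵥ x) ^ 2) :
    ∃ v, v ᵥ* C = w := by
  obtain ⟨P, Q, hP, hQ, d, hd⟩ := exists_diag C
  have hz : ∀ i, d i = 0 → (w ᵥ* Q) i = 0 := fun i hi => by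
    have hC : C *ᵥ (Q *ᵥ Pi.single i 1) = 0 := by
      refine mulVec_injective_iff_isUnit.2 ((isUnit_iff_isUnit_det P).2 hP) ?_
      rw [mulVec_zero, mulVec_mulVec, mulVec_mulVec, hd]
      funext j
      simp only [mulVec_diagonal, Pi.zero_apply]
      by_cases h : j = i <;> simp [h, hi]
    have h1 := hq (Q *ᵥ Pi.single i 1)
    rw [hC, dotProduct_zero, zero_eq_neg, pow_eq_zero_iff two_ne_zero, dotProduct_mulVec, dotProduct_single,
      mul_one] at h1
    exact h1
  refine ⟨(fun i => (w ᵥ* Q) i / d i) ᵥ* P, ?_⟩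
  have h2 : ((fun i => (w ᵥ* Q) i / d i) ᵥ* P) ᵥ* C ᵥ* Q = w ᵥ* Q := by
    rw [vecMul_vecMul, vecMul_vecMul, ← Matrix.mul_assoc, hd]
    funext i
    rw [vecMul_diagonal]
    by_cases h : d i = 0
    · rw [h, mul_zero, hz i h]
    · rw [div_mul_cancel₀ _ h]
  exact vecMul_injective_iff_isUnit.2 ((isUnit_iff_isUnit_det Q).2 hQ) h2

/-- Orthogonal shear: the correction is alternating when `C` has even rank. -/
theorem exists_orth_shear {A C : Matrix l l F} (hker : ∀ x, A *ᵥ x = 0 → C *ᵥ x = 0 → x = 0)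
    (hq : ∀ x, (A *ᵥ x) ⬝ᵥ (C *ᵥ x) = 0) :
    ∃ (K : Matrix l l F) (v : l → F), (∀ y, y ⬝ᵥ (K *ᵥ y) = -(v ⬝ᵥ y) ^ 2) ∧
      IsUnit (A + K * C).det ∧ (Even C.rank → v = 0) := by
  obtain ⟨P, Q, hP, hQ, d, hd⟩ := exists_diag C
  set A' := P⁻¹ᵀ * A * Q with hA'
  have hq' : ∀ x, (A' *ᵥ x) ⬝ᵥ (diagonal d *ᵥ x) = 0 := fun x => by
    rw [← hd, hA']
    simp only [← mulVec_mulVec]
    rw [mulVec_transpose, ← dotProduct_mulVec, mulVec_mulVec _ P⁻¹ P, nonsing_inv_mul _ hP, one_mulVec]
    exact hq _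
  have hdiag : ∀ i, A' i i * d i = 0 := fun i => by
    have := hq' (Pi.single i 1)
    simpa [mulVec_single, mulVec_diagonal, dotProduct, Pi.single_apply] using this
  have hs : ∀ i j, A' j i * d j = -(A' i j * d i) := by
    intro i j
    by_cases hij : i = j
    · subst hij; rw [hdiag, neg_zero]
    have := hq' (Pi.single i 1 + Pi.single j 1)
    simp only [mulVec_add, add_dotProduct, dotProduct_add, hq', zero_add, add_zero] at this
    have e : ∀ a b : l, (A' *ᵥ Pi.single a 1) ⬝ᵥ (diagonal d *ᵥ Pi.single b 1) = A' b a * d b := by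
      intro a b
      simp [mulVec_single, mulVec_diagonal, dotProduct, Pi.single_apply]
    rw [e, e] at this
    linear_combination this
  have hd2 : ∀ x, diagonal d *ᵥ x = 0 ↔ ∀ i, d i * x i = 0 := fun x => by
    simp [funext_iff, mulVec_diagonal]
  classical
  let s := {i // d i ≠ 0}
  let f : s ≃ Fin (Fintype.card s) := Fintype.equivFin s
  obtain ⟨R₀, e₀, hR₀, hRq, heven⟩ := exists_pairing (F := F) (Fintype.card s)
  let R : Matrix l l F := Matrix.of fun i j =>
    if h : d i ≠ 0 ∧ d j ≠ 0 then R₀ (f ⟨i, h.1⟩) (f ⟨j, h.2⟩) else 0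
  have hsum : ∀ g : l → F, (∀ i, d i = 0 → g i = 0) →
      ∑ i, g i = ∑ k, g (f.symm k).1 := fun g hg => by
    rw [Equiv.sum_comp f.symm (fun i : s => g i.1)]
    rw [← Finset.sum_subtype (Finset.univ.filter fun i => d i ≠ 0) (fun x => by simp) g]
    exact (Finset.sum_subset (Finset.subset_univ _) fun i _ hi => hg i (by simpa using hi)).symm
  have hRe : ∀ k k', R (f.symm k).1 (f.symm k').1 = R₀ k k' := fun k k' => by
    simp [R, (f.symm k).2, (f.symm k').2]
  have hu := shear_diag (A := A') (d := d) R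
    (fun x h1 h2 => transport_ker hP hQ hker h1 (by rw [hd]; exact (hd2 x).2 h2))
    (fun i j hi hj => by
      have := hs i j
      rw [hj, mul_zero, zero_eq_neg] at this
      exact (mul_eq_zero.1 this).resolve_right hi)
    (fun i j hj hi => by simp [R, hj])
    (fun x hx i hi => by
      have h1 : R₀ *ᵥ (fun k => x (f.symm k).1) = 0 := funext fun k => by
        have := hx _ (f.symm k).2
        simp only [mulVec, dotProduct, Pi.zero_apply] at this ⊢
        rw [hsum _ (fun j hj => by simp [R, hj])] at this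
        simpa [hRe] using this
      simpa using congrFun (hR₀ _ h1) (f ⟨i, hi⟩))
  set K : Matrix l l F := Matrix.of fun i j => if d i ≠ 0 ∧ d j ≠ 0 then (R i j - A' i j * d i) / (d i * d j) else 0
    with hK
  let e : l → F := fun i => if h : d i ≠ 0 then e₀ (f ⟨i, h⟩) / d i else 0
  have hKq : ∀ y, y ⬝ᵥ (K *ᵥ y) = -(e ⬝ᵥ y) ^ 2 := by
    intro y
    let z : l → F := fun i => y i / d i
    have h1 : y ⬝ᵥ (K *ᵥ y) = z ⬝ᵥ (R *ᵥ z) - z ⬝ᵥ ((Matrix.of fun i j =>
        if d i ≠ 0 ∧ d j ≠ 0 then A' i j * d i else 0) *ᵥ z) := by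
      simp only [dotProduct, mulVec, Finset.mul_sum, ← Finset.sum_sub_distrib]
      refine Finset.sum_congr rfl fun i _ => Finset.sum_congr rfl fun j _ => ?_
      simp only [hK, of_apply, z]
      by_cases h : d i ≠ 0 ∧ d j ≠ 0
      · rw [if_pos h, if_pos h]
        obtain ⟨h1, h2⟩ := h
        field_simp
      · rw [if_neg h, if_neg h]
        simp [R, h]
    have h2 : z ⬝ᵥ ((Matrix.of fun i j => if d i ≠ 0 ∧ d j ≠ 0 then A' i j * d i else 0) *ᵥ z) = 0 := by
      refine alt_quad (fun i j => ?_) (fun i => ?_) z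
      · simp only [of_apply]
        by_cases h : d i ≠ 0 ∧ d j ≠ 0
        · rw [if_pos h, if_pos ⟨h.2, h.1⟩, hs i j]
        · rw [if_neg h, if_neg (fun c => h ⟨c.2, c.1⟩), neg_zero]
      · simp [hdiag i]
    have h3 : z ⬝ᵥ (R *ᵥ z) = (fun k => z (f.symm k).1) ⬝ᵥ (R₀ *ᵥ fun k => z (f.symm k).1) := by
      simp only [dotProduct, mulVec]
      rw [hsum _ (fun i hi => by simp [z, hi])]
      refine Finset.sum_congr rfl fun k _ => ?_
      rw [hsum _ (fun j hj => by simp [R, hj])]
      simp [hRe]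
    have h4 : e ⬝ᵥ y = e₀ ⬝ᵥ fun k => z (f.symm k).1 := by
      simp only [dotProduct]
      rw [hsum _ (fun i hi => by simp [e, hi])]
      refine Finset.sum_congr rfl fun k _ => ?_
      simp [e, z, (f.symm k).2]
      ring
    rw [h1, h2, sub_zero, h3, hRq, h4]
  refine ⟨Pᵀ * K * P, e ᵥ* P, fun y => ?_, shear_of_diag hP hQ (hd ▸ hu), fun hev => ?_⟩
  · rw [Matrix.mul_assoc, ← mulVec_mulVec, ← mulVec_mulVec, dotProduct_mulVec, vecMul_transpose, hKq,
      dotProduct_mulVec]
  · have hr : C.rank = Fintype.card s := by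
      rw [← rank_diagonal d, ← hd, rank_mul_eq_left_of_isUnit_det Q _ hQ, rank_mul_eq_right_of_isUnit_det P _ hP]
    have he : e = 0 := funext fun i => by simp [e, heven (hr ▸ hev)]
    rw [he, zero_vecMul]

end H31.CSQ
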