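import Cfsg.Agent.H31.ClassSq.OrthCommon
import Cfsg.Agent.H31.ClassSq.Shear
import Cfsg.Agent.H44.BlockDiag
import Cfsg.Agent.H44.Omega
import Cfsg.Agent.H43.Omega

/-!
The plus type orthogonal instance of the Siegel class square argument.
-/

set_option autoImplicit false
set_option linter.style.haveILetI false
set_option linter.unusedSectionVars false

namespace H31.CSQ.Plus

open Matrix H21.ClassSquare H41 H41.Reg H31.CSQ.Orth
open H43 (orthGroup qPlus polB)

variable {K : Type*} [Field K] {m n : ℕ}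

/-- The isometry group of the hyperbolic form. -/
abbrev Iso (m : ℕ) (K : Type*) [Field K] := Cfsg.isometryGroup K (Cfsg.quadFormPlus m K)

theorem quad_eq (v : Fin m ⊕ Fin m → K) : Cfsg.quadFormPlus m K v = (v ∘ Sum.inl) ⬝ᵥ (v ∘ Sum.inr) := rfl

/-- The matrix of an isometry. -/
abbrev mx (g : Iso m K) : Matrix (Fin m ⊕ Fin m) (Fin m ⊕ Fin m) K := ((g : GL (Fin m ⊕ Fin m) K) : Matrix _ _ K)

theorem mx_mul (g h : Iso m K) : mx (g * h) = mx g * mx h := rfl

theorem mx_one : mx (1 : Iso m K) = 1 := rfl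

theorem mx_ext {g h : Iso m K} (e : mx g = mx h) : g = h := Subtype.ext (Units.ext e)

theorem mx_quad (g : Iso m K) (v : Fin m ⊕ Fin m → K) :
    Cfsg.quadFormPlus m K (mx g *ᵥ v) = Cfsg.quadFormPlus m K v := g.2 v v

theorem block_eq (g : Iso m K) (x y : Fin m → K) :
    ((mx g).toBlocks₁₁ *ᵥ x + (mx g).toBlocks₁₂ *ᵥ y) ⬝ᵥ ((mx g).toBlocks₂₁ *ᵥ x + (mx g).toBlocks₂₂ *ᵥ y) =
      x ⬝ᵥ y := by
  have h := mx_quad g (Sum.elim x y)
  rw [← fromBlocks_toBlocks (mx g), fromBlocks_mulVec, quad_eq, quad_eq] at h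
  simpa using h

/-- An isometry from blocks. -/
noncomputable def mkIso (A B C D : Matrix (Fin m) (Fin m) K) (hd : IsUnit (fromBlocks A B C D).det)
    (h : ∀ x y : Fin m → K, (A *ᵥ x + B *ᵥ y) ⬝ᵥ (C *ᵥ x + D *ᵥ y) = x ⬝ᵥ y) : Iso m K :=
  ⟨GeneralLinearGroup.mk'' (fromBlocks A B C D) hd, fun v _ => by
    show Cfsg.quadFormPlus m K (fromBlocks A B C D *ᵥ v) = Cfsg.quadFormPlus m K v
    rw [fromBlocks_mulVec, quad_eq, quad_eq]
    exact h _ _⟩

theorem mx_mkIso (A B C D : Matrix (Fin m) (Fin m) K) (hd : IsUnit (fromBlocks A B C D).det)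
    (h : ∀ x y : Fin m → K, (A *ᵥ x + B *ᵥ y) ⬝ᵥ (C *ᵥ x + D *ᵥ y) = x ⬝ᵥ y) :
    mx (mkIso A B C D hd h) = fromBlocks A B C D := rfl

/-- An upper unipotent isometry. -/
noncomputable def up (S : Matrix (Fin m) (Fin m) K) (hS : Alt S) : Iso m K :=
  mkIso 1 S 0 1 (by simp) fun x y => by
    simp [add_dotProduct, dotProduct_comm (S *ᵥ y) y, hS y]

/-- A lower unipotent isometry. -/
noncomputable def lo (S : Matrix (Fin m) (Fin m) K) (hS : Alt S) : Iso m K :=
  mkIso 1 0 S 1 (by simp) fun x y => by simp [dotProduct_add, hS x]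

theorem inv_transpose_dot (X : GL (Fin m) K) (x y : Fin m → K) :
    (X.val *ᵥ x) ⬝ᵥ ((X⁻¹ : GL (Fin m) K).valᵀ *ᵥ y) = x ⬝ᵥ y := by
  rw [mulVec_transpose, dotProduct_comm, ← dotProduct_mulVec, mulVec_mulVec, Units.inv_mul, one_mulVec,
    dotProduct_comm]

/-- The Levi homomorphism. -/
noncomputable def lev : GL (Fin m) K →* Iso m K where
  toFun X := mkIso X.val 0 0 (X⁻¹ : GL (Fin m) K).valᵀ
    (by rw [det_fromBlocks_zero₁₂, det_transpose]
        exact ((isUnit_iff_isUnit_det _).1 X.isUnit).mul ((isUnit_iff_isUnit_det _).1 (X⁻¹).isUnit))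
    fun x y => by simpa using inv_transpose_dot X x y
  map_one' := mx_ext (by simp [mx_mkIso, mx_one])
  map_mul' X Y := mx_ext (by simp [mx_mkIso, mx_mul, fromBlocks_multiply, transpose_mul])

theorem mx_lev (X : GL (Fin m) K) : mx (lev X) = fromBlocks X.val 0 0 (X⁻¹ : GL (Fin m) K).valᵀ := rfl

/-- The Siegel data. -/
noncomputable def siegel (m : ℕ) (K : Type*) [Field K] : Siegel (Iso m K) (Fin m ⊕ Fin m) K m where
  mat := (Cfsg.isometryGroup K (Cfsg.quadFormPlus m K)).subtype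
  inj := Subtype.val_injective
  ε := Sum.elim (fun _ => 1) fun _ => -1
  e := Sum.inl
  f := Sum.inr
  ε_e _ := rfl
  ε_f _ := rfl
  ε_le x := by cases x <;> simp
  ε_ge x := by cases x <;> simp
  e_surj x hx := by
    cases x with
    | inl i => exact ⟨i, rfl⟩
    | inr i => simp at hx
  e_inj := Sum.inl_injective
  f_inj := Sum.inr_injective
  L := lev
  L_block X x y h := by
    show mx (lev X) x y = 0
    rw [mx_lev]
    cases x <;> cases y <;> simp_all
  L_e X i j := by
    show mx (lev X) (Sum.inl i) (Sum.inl j) = _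
    simp [mx_lev]

@[simp] theorem siegel_mat (g : Iso m K) :
    (((siegel m K).mat g : GL (Fin m ⊕ Fin m) K) : Matrix (Fin m ⊕ Fin m) (Fin m ⊕ Fin m) K) = mx g := rfl

variable [Fintype K]

theorem mem_U {g : Iso m K} :
    g ∈ (siegel m K).U ↔ (mx g).toBlocks₁₁ = 1 ∧ (mx g).toBlocks₂₁ = 0 ∧ (mx g).toBlocks₂₂ = 1 := by
  rw [Siegel.mem_U]
  constructor
  · intro h
    refine ⟨?_, ?_, ?_⟩ <;> ext i j
    · simpa [Matrix.toBlocks₁₁, Matrix.one_apply] using h (Sum.inl i) (Sum.inl j) le_rfl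
    · simpa [Matrix.toBlocks₂₁] using h (Sum.inr i) (Sum.inl j) (by simp [siegel])
    · simpa [Matrix.toBlocks₂₂, Matrix.one_apply] using h (Sum.inr i) (Sum.inr j) le_rfl
  · rintro ⟨h1, h2, h3⟩ (x | x) (y | y) hxy
    · simpa [Matrix.one_apply, Matrix.toBlocks₁₁] using congrFun (congrFun h1 x) y
    · simp [siegel] at hxy
    · simpa [Matrix.toBlocks₂₁] using congrFun (congrFun h2 x) y
    · simpa [Matrix.one_apply, Matrix.toBlocks₂₂] using congrFun (congrFun h3 x) y

theorem mem_V {g : Iso m K} :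
    g ∈ (siegel m K).V ↔ (mx g).toBlocks₁₁ = 1 ∧ (mx g).toBlocks₁₂ = 0 ∧ (mx g).toBlocks₂₂ = 1 := by
  rw [Siegel.mem_V]
  constructor
  · intro h
    refine ⟨?_, ?_, ?_⟩ <;> ext i j
    · simpa [Matrix.toBlocks₁₁, Matrix.one_apply] using h (Sum.inl i) (Sum.inl j) le_rfl
    · simpa [Matrix.toBlocks₁₂] using h (Sum.inl i) (Sum.inr j) (by simp [siegel])
    · simpa [Matrix.toBlocks₂₂, Matrix.one_apply] using h (Sum.inr i) (Sum.inr j) le_rfl
  · rintro ⟨h1, h2, h3⟩ (x | x) (y | y) hxy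
    · simpa [Matrix.one_apply, Matrix.toBlocks₁₁] using congrFun (congrFun h1 x) y
    · simpa [Matrix.toBlocks₁₂] using congrFun (congrFun h2 x) y
    · simp [siegel] at hxy
    · simpa [Matrix.one_apply, Matrix.toBlocks₂₂] using congrFun (congrFun h3 x) y

theorem up_mem (S : Matrix (Fin m) (Fin m) K) (hS : Alt S) : up S hS ∈ (siegel m K).U :=
  mem_U.2 (by simp [up, mx_mkIso])

theorem lo_mem (S : Matrix (Fin m) (Fin m) K) (hS : Alt S) : lo S hS ∈ (siegel m K).V :=
  mem_V.2 (by simp [lo, mx_mkIso])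

theorem exists_up {g : Iso m K} (hg : g ∈ (siegel m K).U) : ∃ S hS, g = up S hS := by
  obtain ⟨h1, h2, h3⟩ := mem_U.1 hg
  refine ⟨(mx g).toBlocks₁₂, fun y => ?_, mx_ext ?_⟩
  · have := block_eq g 0 y
    rw [h1, h2, h3] at this
    simpa [dotProduct_comm] using this
  · conv_lhs => rw [← fromBlocks_toBlocks (mx g), h1, h2, h3]
    rfl

theorem exists_lo {g : Iso m K} (hg : g ∈ (siegel m K).V) : ∃ S hS, g = lo S hS := by
  obtain ⟨h1, h2, h3⟩ := mem_V.1 hg
  refine ⟨(mx g).toBlocks₂₁, fun x => ?_, mx_ext ?_⟩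
  · have := block_eq g x 0
    rw [h1, h2, h3] at this
    simpa using this
  · conv_lhs => rw [← fromBlocks_toBlocks (mx g), h1, h2, h3]
    rfl

theorem top_eq (g : Iso m K) : (siegel m K).top g = (mx g).toBlocks₁₁ := by
  ext i j; rfl

theorem top_up_lo {S T : Matrix (Fin m) (Fin m) K} (hS : Alt S) (hT : Alt T) :
    (siegel m K).top (up S hS * lo T hT) = 1 + S * T := by
  rw [top_eq]
  simp [up, lo, mx_mul, mx_mkIso, fromBlocks_multiply]

theorem decomp (g : Iso m K) (hg : IsUnit ((siegel m K).top g).det) :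
    ∃ v ∈ (siegel m K).V, ∃ X, ∃ u ∈ (siegel m K).U, g = v * (siegel m K).L X * u := by
  rw [top_eq] at hg
  set A := (mx g).toBlocks₁₁
  set B := (mx g).toBlocks₁₂
  let X : GL (Fin m) K := GeneralLinearGroup.mk'' A hg
  have hS : Alt (A⁻¹ * B) := fun y => by
    have h := block_eq g (-((A⁻¹ * B) *ᵥ y)) y
    rw [mulVec_neg, mulVec_mulVec, ← Matrix.mul_assoc, mul_nonsing_inv _ hg, Matrix.one_mul, neg_add_cancel,
      zero_dotProduct, neg_dotProduct, zero_eq_neg, dotProduct_comm] at h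
    exact h
  set u := up (A⁻¹ * B) hS with hu
  obtain ⟨v, hv⟩ : ∃ v, v = g * (lev X * u)⁻¹ := ⟨_, rfl⟩
  refine ⟨v, ?_, X, u, up_mem _ hS, by show g = v * lev X * u; rw [hv]; group⟩
  have e : mx v * fromBlocks A B 0 (X⁻¹ : GL (Fin m) K).valᵀ = mx g := by
    have e0 : v * (lev X * u) = g := by rw [hv]; exact inv_mul_cancel_right g _
    have := congrArg mx e0
    rw [mx_mul, mx_mul, mx_lev, hu, up, mx_mkIso, fromBlocks_multiply] at this
    simpa [X, mul_nonsing_inv_cancel_left _ _ hg] using this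
  rw [← fromBlocks_toBlocks (mx v), fromBlocks_multiply, ← fromBlocks_toBlocks (mx g), fromBlocks_inj] at e
  simp only [Matrix.mul_zero, add_zero] at e
  have v11 : (mx v).toBlocks₁₁ = 1 := by
    rw [← mul_nonsing_inv_cancel_right A (mx v).toBlocks₁₁ hg, e.1]
    exact mul_nonsing_inv _ hg
  have v12 : (mx v).toBlocks₁₂ = 0 := by
    have h := e.2.1
    rw [v11, Matrix.one_mul, add_eq_left] at h
    have := congrArg (· * Aᵀ) h
    rw [Matrix.mul_assoc, Matrix.zero_mul] at this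
    rw [show (X⁻¹ : GL (Fin m) K).valᵀ * Aᵀ = 1 by
      rw [← transpose_mul, ← transpose_one]; exact congrArg transpose X.mul_inv, Matrix.mul_one] at this
    exact this
  refine mem_V.2 ⟨v11, v12, ?_⟩
  refine Matrix.ext_iff_mulVec.2 fun y => ?_
  refine funext fun i => ?_
  have h0 := block_eq v (Pi.single i 1) 0
  have h1 := block_eq v (Pi.single i 1) y
  simp [v11, v12, dotProduct, Matrix.one_apply] at h0 h1
  simpa [h0, dotProduct, Matrix.one_apply, Pi.single_apply] using h1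

/-- The comparison with linear isometries. -/
noncomputable def theta (m : ℕ) (K : Type*) [Field K] : Iso m K ≃* orthGroup (qPlus m K) :=
  (MulEquiv.subgroupCongr (show Cfsg.isometryGroup K (Cfsg.quadFormPlus m K) =
    Cfsg.isometryGroup K ⇑(qPlus m K) by rw [H43.coe_qPlus])).trans (H43.toOrth _)

theorem theta_apply (g : Iso m K) (x : Fin m ⊕ Fin m → K) : (theta m K g).1 x = mx g *ᵥ x := rfl

theorem hgen (hK : 9 ≤ Fintype.card K) (V : Type*) [AddCommGroup V] [Module K V] :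
    H43.ReflGenerates K V :=
  H43.reflGenerates_of_card (Or.inl (by omega))

theorem mem_omega_iff (hK : 9 ≤ Fintype.card K) (g : Iso m K) :
    g ∈ commutator (Iso m K) ↔ H43.dickson (theta m K g) = 1 ∧ H43.spinor (theta m K g) = 1 := by
  rw [← H44.mem_commutator_iff (H43.qPlus_nondeg m) (hgen hK _)]
  have e : (commutator (Iso m K)).map (theta m K : Iso m K →* orthGroup (qPlus m K)) =
      commutator (orthGroup (qPlus m K)) := by
    rw [commutator_def, Subgroup.map_commutator, Subgroup.map_top_of_surjective _ (theta m K).surjective,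
      commutator_def]
  rw [← e]
  exact (Subgroup.mem_map_iff_mem (theta m K).injective).symm

theorem lev_invariants (hK : 9 ≤ Fintype.card K) (X : GL (Fin m) K) :
    H43.dickson (theta m K (lev X)) = 1 ∧ H43.spinor (theta m K (lev X)) = H43.sqc X.val.det := by
  have hd : X.val.det ≠ 0 := ((isUnit_iff_isUnit_det _).1 X.isUnit).ne_zero
  have he : ∀ x, (theta m K (lev X)).1 x = fromBlocks X.val 0 0 (X.val⁻¹)ᵀ *ᵥ x := fun x => by
    rw [theta_apply, mx_lev, coe_units_inv]
  exact ⟨H44.blockOrth_dickson (hgen hK _) he, H44.blockOrth_spinor (hgen hK _) X.val hd _ he⟩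

theorem invert (hK : 9 ≤ Fintype.card K) (g : Iso m K) (hg : g ∈ commutator (Iso m K)) :
    ∃ u ∈ (siegel m K).U, IsUnit ((siegel m K).top (u * g)).det := by
  classical
  set A := (mx g).toBlocks₁₁
  set C := (mx g).toBlocks₂₁
  have hg0 : ∀ x, mx g *ᵥ Sum.elim x (0 : Fin m → K) = Sum.elim (A *ᵥ x) (C *ᵥ x) := fun x => by
    conv_lhs => rw [← fromBlocks_toBlocks (mx g), fromBlocks_mulVec]
    simp [A, C]
  have hinj : Function.Injective fun x => mx g *ᵥ x :=
    mulVec_injective_iff_isUnit.2 (g : GL (Fin m ⊕ Fin m) K).isUnit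
  obtain ⟨S, v, hS, hu, hev⟩ := H31.CSQ.exists_orth_shear (A := A) (C := C) (fun x hA hC => by
    have h1 : Sum.elim x (0 : Fin m → K) = 0 := hinj (by
      simp only [hg0, hA, hC, mulVec_zero]
      funext i; cases i <;> rfl)
    exact funext fun i => congrFun h1 (Sum.inl i)) (fun x => by
    have := block_eq g x 0
    simpa [A, C] using this)
  have hv : v = 0 := by
    refine hev ?_
    set U := LinearMap.ker (LinearMap.funLeft K K (Sum.inr : Fin m → Fin m ⊕ Fin m)) with hU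
    have hpar := H44.even_inf_map_iff (H43.qPlus_nondeg m) (hgen hK _) (H43.finrank_qPlus m) (theta m K g)
      (H44.plus_half_singular m) (H44.plus_half_singular m) (H44.plus_half_finrank m) (H44.plus_half_finrank m)
    rw [((mem_omega_iff hK g).1 hg).1, inf_idem, H44.plus_half_finrank, Nat.sub_self] at hpar
    let j : (Fin m → K) →ₗ[K] (Fin m ⊕ Fin m → K) :=
      { toFun := fun x => mx g *ᵥ Sum.elim x 0
        map_add' := fun x y => by
          rw [← mulVec_add]; congr 1; funext i; cases i <;> simp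
        map_smul' := fun c x => by
          rw [RingHom.id_apply, ← mulVec_smul]; congr 1; funext i; cases i <;> simp }
    have hj : Function.Injective j := fun x y h => by
      have := hinj h
      exact funext fun i => congrFun this (Sum.inl i)
    have himg : U ⊓ U.map ((theta m K g).1 : (Fin m ⊕ Fin m → K) →ₗ[K] (Fin m ⊕ Fin m → K)) =
        (LinearMap.ker C.mulVecLin).map j := by
      ext z
      simp only [Submodule.mem_inf, Submodule.mem_map, hU, LinearMap.mem_ker]
      constructor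
      · rintro ⟨hz, y, hy, rfl⟩
        have hy' : y = Sum.elim (y ∘ Sum.inl) 0 := by
          funext i
          cases i with
          | inl i => rfl
          | inr i => exact congrFun hy i
        refine ⟨y ∘ Sum.inl, ?_, ?_⟩
        · funext i
          have := congrFun hz i
          change (mx g *ᵥ y) (Sum.inr i) = _ at this
          rw [hy', hg0] at this
          simpa using this
        · show mx g *ᵥ _ = mx g *ᵥ y
          rw [← hy']
      · rintro ⟨x, hx, rfl⟩
        refine ⟨?_, Sum.elim x 0, rfl, rfl⟩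
        funext i
        show (mx g *ᵥ Sum.elim x 0) (Sum.inr i) = 0
        rw [hg0]
        exact congrFun hx i
    rw [himg, ← (Submodule.equivMapOfInjective j hj _).finrank_eq] at hpar
    have hr := LinearMap.finrank_range_add_finrank_ker C.mulVecLin
    rw [Module.finrank_fin_fun] at hr
    have he : Even (m - Module.finrank K (LinearMap.ker C.mulVecLin)) := by simpa using hpar
    rw [Matrix.rank]
    rwa [← show Module.finrank K (LinearMap.range C.mulVecLin) = m - Module.finrank K (LinearMap.ker C.mulVecLin) by omega] at he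
  have hSa : Alt S := fun y => by rw [hS, hv, zero_dotProduct, zero_pow two_ne_zero, neg_zero]
  refine ⟨up S hSa, up_mem _ _, ?_⟩
  rw [top_eq, mx_mul, ← fromBlocks_toBlocks (mx g)]
  simpa [up, mx_mkIso, fromBlocks_multiply] using hu

/-- The Weyl element exchanging the two radicals. -/
noncomputable def wS : Iso m K :=
  mkIso 0 1 1 0 (by
    refine isUnit_det_of_left_inverse (B := fromBlocks 0 1 1 0) ?_
    simp [fromBlocks_multiply]) fun x y => by simp [dotProduct_comm]

/-- Inverse transpose. -/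
noncomputable def trInv (X : GL (Fin m) K) : GL (Fin m) K where
  val := (X⁻¹ : GL (Fin m) K).valᵀ
  inv := X.valᵀ
  val_inv := by rw [← transpose_mul, X.mul_inv, transpose_one]
  inv_val := by rw [← transpose_mul, X.inv_mul, transpose_one]

theorem conj_wS_lev (X : GL (Fin m) K) : wS * lev X * wS⁻¹ = lev (trInv X) := by
  rw [mul_inv_eq_iff_eq_mul]
  refine mx_ext ?_
  simp [wS, mx_mul, mx_mkIso, mx_lev, trInv, fromBlocks_multiply, Units.inv_mk]

theorem conj_wS_V {v : Iso m K} (hv : v ∈ (siegel m K).V) : wS * v * wS⁻¹ ∈ (siegel m K).U := by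
  obtain ⟨S, hS, rfl⟩ := exists_lo hv
  have e : wS * lo S hS * wS⁻¹ = up S hS := by
    rw [mul_inv_eq_iff_eq_mul]
    refine mx_ext ?_
    simp [wS, lo, up, mx_mul, mx_mkIso, fromBlocks_multiply]
  rw [e]
  exact up_mem _ _

theorem wS_invariants (hK : 9 ≤ Fintype.card K) :
    H43.dickson (theta m K wS) = Multiplicative.ofAdd (m : ZMod 2) ∧
      H43.spinor (theta m K wS) = H43.sqc ((-1 : K) ^ m) := by
  obtain ⟨g, h1, h2, h3⟩ := H44.exists_swapHalves (m := m) (hgen hK (Fin m ⊕ Fin m → K))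
  have e : theta m K wS = g := H43.orth_ext fun x => by
    rw [theta_apply, h3, wS, mx_mkIso, fromBlocks_mulVec]
    funext i
    cases i <;> simp
  rw [e]
  exact ⟨h1, h2⟩

theorem exists_det_one {k : ℕ} {C X : GL (Fin (k + 1)) K}
    (hC : ∀ t : Kˣ, ∃ z : GL (Fin (k + 1)) K, Commute z C ∧ z.val.det = t) (h : IsConj C X) :
    ∃ P : GL (Fin (k + 1)) K, P.val.det = 1 ∧ P * C * P⁻¹ = X := by
  obtain ⟨P, hP⟩ := isConj_iff.1 h
  obtain ⟨z, hz, hzd⟩ := hC (GeneralLinearGroup.det P)⁻¹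
  refine ⟨P * z, ?_, ?_⟩
  · rw [Units.val_mul, det_mul, hzd, ← GeneralLinearGroup.val_det_apply, Units.mul_inv]
  · rw [show P * z * C * (P * z)⁻¹ = P * (z * C * z⁻¹) * P⁻¹ by group, hz.eq, mul_inv_cancel_right, hP]

theorem cls_transpose (c l : Kˣ) :
    IsConj (cls c l (n + 1)) (trInv (cls c l (n + 1)))⁻¹ := by
  have hJ : IsRegLower ((trInv (jordanGL K (n + 1)))⁻¹ : GL (Fin (n + 1)) K).val :=
    ⟨⟨fun i j h => (jordan_reg (K := K)).1.1 j i h, fun i => (jordan_reg (K := K)).1.2 i⟩,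
      fun i j h => (jordan_reg (K := K)).2 j i h⟩
  refine (isConj_cornerHom c (isConj_scal_mul l (isConj_jordan_lower n.succ_pos hJ))).trans ?_
  have e : cornerHom (c, scal l * (trInv (jordanGL K (n + 1)))⁻¹) = (trInv (cls c l (n + 1)))⁻¹ := by
    apply Units.ext
    show _ = ((cornerHom (c, scal l * jordanGL K (n + 1)) : GL (Fin (n + 2)) K).val)ᵀ
    rw [coe_cornerHom, coe_cornerHom]
    ext i j
    cases i using Fin.cases <;> cases j using Fin.cases <;>
      simp [Matrix.transpose_apply, trInv, Units.inv_mk]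
  rw [e]

/-- Squares of units. -/
def sqU (K : Type*) [Field K] : Subgroup Kˣ := (powMonoidHom 2).range

theorem exists_r (hK : 9 ≤ Fintype.card K) (l : Kˣ) :
    ∃ r ∈ commutator (Iso (n + 2) K),
      wS * lev (cls 1 l (n + 1)) * wS⁻¹ = r * lev (cls 1 l (n + 1)) * r⁻¹ := by
  classical
  obtain ⟨hd, hs⟩ := wS_invariants (m := n + 2) hK
  have hnd := H43.qPlus_nondeg (F := K) (n + 2)
  rcases Nat.even_or_odd (n + 2) with hm | hm
  · refine ⟨wS, (mem_omega_iff hK _).2 ⟨?_, ?_⟩, rfl⟩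
    · rw [hd, (ZMod.natCast_eq_zero_iff_even.2 hm)]; rfl
    · rw [hs, hm.neg_one_pow, H43.sqc_one]
  set v : Fin (n + 2) ⊕ Fin (n + 2) → K := Pi.single (Sum.inl 0) 1 - Pi.single (Sum.inr 0) 1 with hv
  have hQv : qPlus (n + 2) K v = -1 := by
    rw [hv, H43.qmap_sub, H43.polB_qPlus]
    simp [H43.coe_qPlus, Cfsg.quadFormPlus, Pi.single_apply]
  have hv0 : qPlus (n + 2) K v ≠ 0 := by rw [hQv]; exact neg_ne_zero.2 one_ne_zero
  set z := (theta (n + 2) K).symm (H43.refl (qPlus (n + 2) K) v) with hz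
  have hfix : mx (lev (cls 1 l (n + 1))) *ᵥ v = v := by
    have e1 : (cls 1 l (n + 1) : GL (Fin (n + 2)) K).val *ᵥ Pi.single 0 1 = Pi.single 0 1 := by
      ext i; cases i using Fin.cases <;> simp [cls, mulVec_single]
    have e2 : ((cls 1 l (n + 1))⁻¹ : GL (Fin (n + 2)) K).valᵀ *ᵥ Pi.single 0 1 = Pi.single 0 1 := by
      rw [cls, ← map_inv, Prod.inv_mk]
      ext i; cases i using Fin.cases <;> simp [mulVec_single]
    have ev : v = Sum.elim (Pi.single 0 1) (-Pi.single 0 1) := by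
      funext i; cases i <;> simp [hv, Pi.single_apply]
    rw [ev, mx_lev, fromBlocks_mulVec]
    simp only [Sum.elim_comp_inl, Sum.elim_comp_inr, zero_mulVec, mulVec_neg, e1, e2, neg_zero, add_zero,
      zero_add]
  have hcomm : z * lev (cls 1 l (n + 1)) = lev (cls 1 l (n + 1)) * z := by
    apply (theta (n + 2) K).injective
    rw [map_mul, map_mul, hz, MulEquiv.apply_symm_apply]
    have := H43.refl_conj (theta (n + 2) K (lev (cls 1 l (n + 1)))) v
    rw [theta_apply, hfix] at this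
    exact (mul_inv_eq_iff_eq_mul.1 this).symm
  refine ⟨wS * z, (mem_omega_iff hK _).2 ?_, ?_⟩
  · rw [map_mul, hz, MulEquiv.apply_symm_apply, H44.dickson_mul hnd (hgen hK _), H44.spinor_mul hnd (hgen hK _),
      H43.dickson_refl hnd hv0, H43.spinor_refl hnd hv0, hd, hs, hQv, hm.neg_one_pow, H43.sqClass_mul_self,
      ← ofAdd_add, ZMod.natCast_eq_one_iff_odd.2 hm]
    exact ⟨rfl, rfl⟩
  · rw [show wS * z * lev (cls 1 l (n + 1)) * (wS * z)⁻¹ = wS * (z * lev (cls 1 l (n + 1)) * z⁻¹) * wS⁻¹ by group,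
      hcomm, mul_inv_cancel_right]

theorem fix {l : Kˣ} (h2 : (l : K) ^ 2 ≠ 1) {N : ℕ}
    (hN : ∀ x : K, x ^ N = 1 → x = 1) {u : Iso (n + 2) K}
    (hu : u ∈ (siegel (n + 2) K).U ∨ u ∈ (siegel (n + 2) K).V)
    (h : Commute (lev (diagU (Fin.cons ((1 : Kˣ) ^ N) fun _ : Fin (n + 1) => l ^ N))) u) : u = 1 := by
  set d : Fin (n + 2) → Kˣ := Fin.cons ((1 : Kˣ) ^ N) fun _ => l ^ N with hd
  have hlev : mx (lev (diagU d)) = Matrix.diagonal (Sum.elim (fun i => (d i : K)) fun i => (d i : K)⁻¹) := by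
    rw [mx_lev, ← fromBlocks_diagonal]
    congr 1
    rw [Matrix.coe_units_inv, show (diagU d : Matrix (Fin (n + 2)) (Fin (n + 2)) K) = diagonal fun i => (d i : K) from rfl,
      Matrix.inv_eq_left_inv (B := diagonal fun i => (d i : K)⁻¹) (by simp [diagonal_mul_diagonal]),
      diagonal_transpose]
  have hne : ∀ i j, i ≠ j → (d i : K) * d j ≠ 1 := by
    intro i j hij
    induction i using Fin.cases <;> induction j using Fin.cases <;>
      simp only [hd, Fin.cons_zero, Fin.cons_succ, one_pow, Units.val_one, one_mul, mul_one,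
        Units.val_pow_eq_pow_val, ← mul_pow] <;>
      intro h <;> first | exact hij rfl | skip
    · exact h2 (by rw [hN _ h, one_pow])
    · exact h2 (by rw [hN _ h, one_pow])
    · exact h2 (by rw [sq]; exact hN _ h)
  have hinv : ∀ i j, (d i : K) = (d j : K)⁻¹ → i = j := fun i j e => by
    by_contra hij
    exact hne i j hij (by rw [e, inv_mul_cancel₀ (Units.ne_zero _)])
  have he : mx (lev (diagU d)) * mx u = mx u * mx (lev (diagU d)) := by rw [← mx_mul, ← mx_mul, h.eq]
  rw [hlev] at he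
  refine mx_ext (eq_one_of_commute_diagonal he fun x y hxy => ?_)
  rcases x with x | x <;> rcases y with y | y <;> simp only [Sum.elim_inl, Sum.elim_inr] at hxy
  · rcases hu with hu | hu
    · exact (Siegel.mem_U _).1 hu _ _ le_rfl
    · exact (Siegel.mem_V _).1 hu _ _ le_rfl
  · obtain rfl := hinv _ _ hxy
    rcases hu with hu | hu
    · obtain ⟨S, hS, rfl⟩ := exists_up hu
      simp [up, mx_mkIso, hS.diag]
    · obtain ⟨S, hS, rfl⟩ := exists_lo hu
      simp [lo, mx_mkIso]
  · obtain rfl := hinv _ _ hxy.symm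
    rcases hu with hu | hu
    · obtain ⟨S, hS, rfl⟩ := exists_up hu
      simp [up, mx_mkIso]
    · obtain ⟨S, hS, rfl⟩ := exists_lo hu
      simp [lo, mx_mkIso, hS.diag]
  · rcases hu with hu | hu
    · exact (Siegel.mem_U _).1 hu _ _ le_rfl
    · exact (Siegel.mem_V _).1 hu _ _ le_rfl

theorem hyp (hn : 1 ≤ n) (hK : 9 ≤ Fintype.card K) {l : Kˣ} (h2 : (l : K) ^ 2 ≠ 1) (hsq : IsSquare (l : K)) :
    Siegel.Hyp (siegel (n + 2) K) (commutator (Iso (n + 2) K)) 1 l (sqU K) where
  normal := inferInstance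
  comm_le := le_rfl
  sq_mem x := ⟨x, rfl⟩
  ne e := h2 (by rw [← e, Units.val_one, one_pow])
  cls_mem := by
    obtain ⟨h3, h4⟩ := lev_invariants hK (cls (1 : Kˣ) l (n + 1))
    refine (mem_omega_iff hK _).2 ⟨h3, h4.trans ?_⟩
    rw [det_cls, Units.val_one, one_mul, H43.sqc_eq_one_iff (pow_ne_zero _ l.ne_zero)]
    exact hsq.pow _
  fixU _ hN _ hu h := fix h2 hN (Or.inl hu) h
  fixV _ hN _ hu h := fix h2 hN (Or.inr hu) h
  det_mem X hX t ht := by
    have h1 := ((mem_omega_iff hK _).1 hX).2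
    change H43.spinor (theta _ K (lev X)) = 1 at h1
    rw [(lev_invariants hK X).2, ← ht, H43.sqc_eq_one_iff t.ne_zero] at h1
    obtain ⟨r, hr⟩ := h1
    exact ⟨Units.mk0 r fun e => t.ne_zero (by rw [hr, e, mul_zero]), Units.ext (by simp [hr, sq])⟩
  decomp g _ hg := decomp g hg
  invert g hg := invert hK g hg
  ur_inj u hu h := by
    obtain ⟨S, hS, rfl⟩ := exists_up hu
    have hS0 : S = 0 := by
      ext i j; exact congrFun (congrFun h i) j
    subst hS0
    exact mx_ext (by simp [up, mx_mkIso, mx_one])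
  moves u hu hu1 s hs hs1 := by
    obtain ⟨S, hS, rfl⟩ := exists_up hu
    have hS0 : S ≠ 0 := fun e => hu1 (by subst e; exact mx_ext (by simp [up, mx_mkIso, mx_one]))
    obtain ⟨σ, rfl⟩ := hs
    obtain ⟨T₁, T₂, hT₁, hT₂, hne, hd₁, hd₂⟩ := moves_alt (by omega) hS hS0 σ.ne_zero
      (fun e => hs1 (Units.ext (by simpa using e)))
    exact ⟨lo T₁ hT₁, lo_mem _ _, lo T₂ hT₂, lo_mem _ _, by simpa only [top_up_lo] using hne,
      by rw [top_up_lo]; simpa using hd₁, by rw [top_up_lo]; simpa using hd₂⟩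
  central X _ h g _ := by
    obtain ⟨a, ha, ha2⟩ := scalar_of_alt (A := X.val) (B := (X⁻¹ : GL (Fin (n + 2)) K).valᵀ) (by omega)
      (by rw [transpose_transpose, Units.inv_mul]) (fun S hS => by
        have := congrArg mx (h _ (up_mem S hS)).eq
        simp [siegel, up, mx_mul, mx_mkIso, mx_lev, fromBlocks_multiply] at this
        simpa [coe_units_inv] using this)
    have hinv : (X⁻¹ : GL (Fin (n + 2)) K).val = a • 1 := by
      refine left_inv_eq_right_inv X.inv_mul ?_
      rw [ha, smul_mul, Matrix.one_mul, smul_smul, ha2, one_smul]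
    refine mx_ext ?_
    show mx (lev X) * mx g = mx g * mx (lev X)
    rw [mx_lev, hinv, ha, transpose_smul, transpose_one,
      show fromBlocks (a • (1 : Matrix (Fin (n + 2)) (Fin (n + 2)) K)) 0 0 (a • 1) = a • 1 by
        rw [← fromBlocks_one, fromBlocks_smul, smul_zero]]
    simp
  opp := by
    obtain ⟨r, hr, he⟩ := exists_r (n := n) hK l
    exact ⟨wS, fun v hv => conj_wS_V hv, fun X => ⟨trInv X, conj_wS_lev X⟩, r, hr, he⟩

theorem hreal (hn : 1 ≤ n) (hK : 9 ≤ Fintype.card K) {l : Kˣ} (h2 : (l : K) ^ 2 ≠ 1) (hsq : IsSquare (l : K)) :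
    IsConj (Siegel.cG (hyp hn hK h2 hsq)) (Siegel.cG (hyp hn hK h2 hsq))⁻¹ := by
  set C := cls (1 : Kˣ) l (n + 1) with hC
  have hcomm : ∀ t : Kˣ, ∃ z : GL (Fin (n + 2)) K, Commute z C ∧ z.val.det = t := fun t =>
    ⟨cornerHom (t, 1), by rw [hC, cls]; exact Commute.map (Prod.ext (mul_comm _ _) (by simp)) _, by
      simp [det_border_zero_col]⟩
  obtain ⟨P, hP1, hP⟩ := exists_det_one hcomm (cls_transpose 1 l)
  obtain ⟨r, hr, he⟩ := exists_r (n := n) hK l
  have hPm : lev P ∈ commutator (Iso (n + 2) K) := by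
    obtain ⟨h3, h4⟩ := lev_invariants hK P
    exact (mem_omega_iff hK _).2 ⟨h3, h4.trans (by rw [hP1, H43.sqc_one])⟩
  refine isConj_iff.2 ⟨⟨r⁻¹ * lev P, mul_mem (inv_mem hr) hPm⟩, Subtype.ext ?_⟩
  show r⁻¹ * lev P * lev C * (r⁻¹ * lev P)⁻¹ = (lev C)⁻¹
  rw [show r⁻¹ * lev P * lev C * (r⁻¹ * lev P)⁻¹ = r⁻¹ * (lev P * lev C * (lev P)⁻¹) * r by group,
    ← map_inv lev P, ← map_mul, ← map_mul, hP, map_inv, ← conj_wS_lev, hC, he]
  group

/-- Thompson's class square for `PΩ⁺`. -/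
theorem pomega_plus_square (hK : 9 ≤ Fintype.card K) (hm : 4 ≤ m) {G : Type*} [Group G]
    (e : G ≃* Cfsg.POmega K (Cfsg.quadFormPlus m K)) :
    ∃ c : G, ∀ g : G, ∃ x y : G, g = (x * c * x⁻¹) * (y * c * y⁻¹) := by
  classical
  obtain ⟨k, rfl⟩ : ∃ k, m = k + 2 := ⟨m - 2, by omega⟩
  obtain ⟨a, ha⟩ : ∃ a : Kˣ, (a : K) ^ 4 ≠ 1 := by
    by_contra h
    push Not at h
    have hsub : (Finset.univ.erase (0 : K)) ⊆ (Polynomial.nthRoots 4 (1 : K)).toFinset := fun x hx => by
      rw [Multiset.mem_toFinset, Polynomial.mem_nthRoots (by norm_num)]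
      exact h (Units.mk0 x (Finset.ne_of_mem_erase hx))
    have := (Finset.card_le_card hsub).trans ((Multiset.toFinset_card_le _).trans (Polynomial.card_nthRoots 4 1))
    rw [Finset.card_erase_of_mem (Finset.mem_univ _), Finset.card_univ] at this
    omega
  have h2 : ((a ^ 2 : Kˣ) : K) ^ 2 ≠ 1 := by rwa [Units.val_pow_eq_pow_val, ← pow_mul]
  have hsq : IsSquare ((a ^ 2 : Kˣ) : K) := ⟨a, by rw [Units.val_pow_eq_pow_val, sq]⟩
  exact Siegel.square (hyp (by omega) hK h2 hsq) hK (hreal (by omega) hK h2 hsq) e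

end H31.CSQ.Plus
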