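import Cfsg.Agent.H31.ClassSq.OddShear
import Cfsg.Agent.H31.ClassSq.PlusInst
import Cfsg.Agent.H44.Pairs

/-!
The odd dimensional orthogonal instance of the Siegel class square argument.
-/

set_option autoImplicit false
set_option linter.style.haveILetI false
set_option linter.unusedSectionVars false

namespace H31.CSQ.Odd

open Matrix H21.ClassSquare H41 H41.Reg H31.CSQ.Orth
open H31.CSQ.Plus (trInv inv_transpose_dot cls_transpose exists_det_one sqU hgen)
open H43 (orthGroup qOdd polB)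

/-- The index type. -/
abbrev Idx (m : ℕ) := Unit ⊕ (Fin m ⊕ Fin m)

variable {K : Type*} [Field K] {m n : ℕ}

/-- A vector from its three parts. -/
abbrev tri (z : K) (x y : Fin m → K) : Idx m → K := Sum.elim (fun _ => z) (Sum.elim x y)

theorem tri_eta (v : Idx m → K) :
    v = tri (v (Sum.inl ())) (fun i => v (Sum.inr (Sum.inl i))) (fun i => v (Sum.inr (Sum.inr i))) := by
  funext i; rcases i with i | i | i <;> rfl

theorem quad_tri (z : K) (x y : Fin m → K) : Cfsg.quadFormOdd m K (tri z x y) = z ^ 2 + x ⬝ᵥ y := rfl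

/-- A matrix from nine blocks. -/
def mat3 (a0 : K) (w b a : Fin m → K) (A B : Matrix (Fin m) (Fin m) K) (c : Fin m → K)
    (C D : Matrix (Fin m) (Fin m) K) : Matrix (Idx m) (Idx m) K :=
  fromBlocks (Matrix.of fun _ _ => a0) (Matrix.of fun _ j => Sum.elim w b j) (Matrix.of fun i _ => Sum.elim a c i)
    (fromBlocks A B C D)

theorem mat3_mulVec (a0 : K) (w b a : Fin m → K) (A B : Matrix (Fin m) (Fin m) K) (c : Fin m → K)
    (C D : Matrix (Fin m) (Fin m) K) (z : K) (x y : Fin m → K) :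
    mat3 a0 w b a A B c C D *ᵥ tri z x y =
      tri (a0 * z + w ⬝ᵥ x + b ⬝ᵥ y) (z • a + A *ᵥ x + B *ᵥ y) (z • c + C *ᵥ x + D *ᵥ y) := by
  funext i
  rcases i with i | i | i <;>
    simp [mat3, mulVec, dotProduct, Fintype.sum_sum_type] <;> ring

theorem eq_mat3 (M : Matrix (Idx m) (Idx m) K) :
    M = mat3 (M (Sum.inl ()) (Sum.inl ())) (fun j => M (Sum.inl ()) (Sum.inr (Sum.inl j)))
      (fun j => M (Sum.inl ()) (Sum.inr (Sum.inr j))) (fun i => M (Sum.inr (Sum.inl i)) (Sum.inl ()))
      (Matrix.of fun i j => M (Sum.inr (Sum.inl i)) (Sum.inr (Sum.inl j)))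
      (Matrix.of fun i j => M (Sum.inr (Sum.inl i)) (Sum.inr (Sum.inr j)))
      (fun i => M (Sum.inr (Sum.inr i)) (Sum.inl ()))
      (Matrix.of fun i j => M (Sum.inr (Sum.inr i)) (Sum.inr (Sum.inl j)))
      (Matrix.of fun i j => M (Sum.inr (Sum.inr i)) (Sum.inr (Sum.inr j))) := by
  ext i j
  rcases i with i | i | i <;> rcases j with j | j | j <;> rfl

/-- The isometry group. -/
abbrev Iso (m : ℕ) (K : Type*) [Field K] := Cfsg.isometryGroup K (Cfsg.quadFormOdd m K)

/-- The matrix of an isometry. -/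
abbrev mx (g : Iso m K) : Matrix (Idx m) (Idx m) K := ((g : GL (Idx m) K) : Matrix _ _ K)

theorem mx_mul (g h : Iso m K) : mx (g * h) = mx g * mx h := rfl

theorem mx_one : mx (1 : Iso m K) = 1 := rfl

theorem mx_ext {g h : Iso m K} (e : mx g = mx h) : g = h := Subtype.ext (Units.ext e)

theorem mx_quad (g : Iso m K) (v : Idx m → K) :
    Cfsg.quadFormOdd m K (mx g *ᵥ v) = Cfsg.quadFormOdd m K v := g.2 v v

/-- The comparison with linear isometries. -/
noncomputable def theta (m : ℕ) (K : Type*) [Field K] : Iso m K ≃* orthGroup (qOdd m K) :=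
  (MulEquiv.subgroupCongr (show Cfsg.isometryGroup K (Cfsg.quadFormOdd m K) =
    Cfsg.isometryGroup K ⇑(qOdd m K) by rw [H43.coe_qOdd])).trans (H43.toOrth _)

theorem theta_apply (g : Iso m K) (x : Idx m → K) : (theta m K g).1 x = mx g *ᵥ x := rfl

section elements

variable [NeZero (2 : K)]

theorem hnd (m : ℕ) (K : Type*) [Field K] [NeZero (2 : K)] : (polB (qOdd m K)).Nondegenerate :=
  H43.qOdd_nondeg two_ne_zero m

/-- An isometry from a matrix preserving the form. -/
noncomputable def mk (M : Matrix (Idx m) (Idx m) K)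
    (h : ∀ v, Cfsg.quadFormOdd m K (M *ᵥ v) = Cfsg.quadFormOdd m K v) : Iso m K :=
  (theta m K).symm (H43.ofIsometry (hnd m K) (Matrix.toLin' M) fun x => by
    rw [H43.coe_qOdd, Matrix.toLin'_apply, h])

theorem mx_mk (M : Matrix (Idx m) (Idx m) K)
    (h : ∀ v, Cfsg.quadFormOdd m K (M *ᵥ v) = Cfsg.quadFormOdd m K v) : mx (mk M h) = M := by
  refine Matrix.ext_iff_mulVec.2 fun x => ?_
  rw [← theta_apply, mk, MulEquiv.apply_symm_apply, H43.ofIsometry_apply, Matrix.toLin'_apply]

/-- An upper unipotent isometry. -/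
noncomputable def up (r : Fin m → K) (S : Matrix (Fin m) (Fin m) K) (h : OddPair r S) : Iso m K :=
  mk (mat3 1 0 r ((-2 : K) • r) 1 S 0 0 1) fun v => by
    rw [tri_eta v, mat3_mulVec, quad_tri, quad_tri]
    generalize v (Sum.inl ()) = z
    generalize (fun i => v (Sum.inr (Sum.inl i))) = x
    generalize (fun i => v (Sum.inr (Sum.inr i))) = y
    simp only [zero_dotProduct, add_zero, one_mul, one_mulVec, zero_mulVec, smul_zero, zero_add, add_dotProduct,
      smul_dotProduct, smul_eq_mul]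
    rw [dotProduct_comm (S *ᵥ y) y, h y]
    ring

/-- A lower unipotent isometry. -/
noncomputable def lo (r : Fin m → K) (S : Matrix (Fin m) (Fin m) K) (h : OddPair r S) : Iso m K :=
  mk (mat3 1 r 0 0 1 0 ((-2 : K) • r) S 1) fun v => by
    rw [tri_eta v, mat3_mulVec, quad_tri, quad_tri]
    generalize v (Sum.inl ()) = z
    generalize (fun i => v (Sum.inr (Sum.inl i))) = x
    generalize (fun i => v (Sum.inr (Sum.inr i))) = y
    simp only [zero_dotProduct, add_zero, one_mul, one_mulVec, zero_mulVec, smul_zero, zero_add, dotProduct_add,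
      dotProduct_smul, smul_eq_mul]
    rw [h x, dotProduct_comm x r]
    ring

theorem mx_up {r : Fin m → K} {S : Matrix (Fin m) (Fin m) K} (h : OddPair r S) :
    mx (up r S h) = mat3 1 0 r ((-2 : K) • r) 1 S 0 0 1 := mx_mk _ _

theorem mx_lo {r : Fin m → K} {S : Matrix (Fin m) (Fin m) K} (h : OddPair r S) :
    mx (lo r S h) = mat3 1 r 0 0 1 0 ((-2 : K) • r) S 1 := mx_mk _ _

/-- The Levi element as a matrix. -/
def levM (X : GL (Fin m) K) : Matrix (Idx m) (Idx m) K :=
  fromBlocks 1 0 0 (fromBlocks X.val 0 0 (X⁻¹ : GL (Fin m) K).valᵀ)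

theorem levM_eq (X : GL (Fin m) K) :
    levM X = mat3 1 0 0 0 X.val 0 0 0 (X⁻¹ : GL (Fin m) K).valᵀ := by
  ext i j
  rcases i with i | i | i <;> rcases j with j | j | j <;> simp [levM, mat3]

theorem levM_quad (X : GL (Fin m) K) (v : Idx m → K) :
    Cfsg.quadFormOdd m K (levM X *ᵥ v) = Cfsg.quadFormOdd m K v := by
  rw [tri_eta v, levM_eq, mat3_mulVec, quad_tri, quad_tri]
  simp only [one_mul, zero_dotProduct, add_zero, smul_zero, zero_mulVec, zero_add]
  rw [inv_transpose_dot]

/-- The Levi homomorphism. -/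
noncomputable def lev : GL (Fin m) K →* Iso m K where
  toFun X := mk (levM X) (levM_quad X)
  map_one' := mx_ext (by simp [mx_mk, mx_one, levM])
  map_mul' X Y := mx_ext (by simp [mx_mk, mx_mul, levM, fromBlocks_multiply, transpose_mul])

theorem mx_lev (X : GL (Fin m) K) : mx (lev X) = levM X := mx_mk _ (levM_quad X)

/-- The Siegel data. -/
noncomputable def siegel (m : ℕ) (K : Type*) [Field K] [NeZero (2 : K)] : Siegel (Iso m K) (Idx m) K m where
  mat := (Cfsg.isometryGroup K (Cfsg.quadFormOdd m K)).subtype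
  inj := Subtype.val_injective
  ε := Sum.elim (fun _ => 0) (Sum.elim (fun _ => 1) fun _ => -1)
  e i := Sum.inr (Sum.inl i)
  f i := Sum.inr (Sum.inr i)
  ε_e _ := rfl
  ε_f _ := rfl
  ε_le x := by rcases x with x | x | x <;> simp
  ε_ge x := by rcases x with x | x | x <;> simp
  e_surj x hx := by
    rcases x with x | x | x
    · simp at hx
    · exact ⟨x, rfl⟩
    · simp at hx
  e_inj _ _ h := Sum.inl_injective (Sum.inr_injective h)
  f_inj _ _ h := Sum.inr_injective (Sum.inr_injective h)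
  L := lev
  L_block X x y h := by
    show mx (lev X) x y = 0
    rw [mx_lev]
    rcases x with x | x | x <;> rcases y with y | y | y <;> simp_all [levM]
  L_e X i j := by
    show mx (lev X) (Sum.inr (Sum.inl i)) (Sum.inr (Sum.inl j)) = _
    simp [mx_lev, levM]

@[simp] theorem siegel_mat (g : Iso m K) :
    (((siegel m K).mat g : GL (Idx m) K) : Matrix (Idx m) (Idx m) K) = mx g := rfl

variable [Fintype K]

theorem exists_up {g : Iso m K} (hg : g ∈ (siegel m K).U) : ∃ r S h, g = up r S h := by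
  rw [Siegel.mem_U] at hg
  simp only [siegel_mat] at hg
  set r : Fin m → K := fun j => mx g (Sum.inl ()) (Sum.inr (Sum.inr j)) with hr
  set p : Fin m → K := fun i => mx g (Sum.inr (Sum.inl i)) (Sum.inl ()) with hp
  set S : Matrix (Fin m) (Fin m) K := Matrix.of fun i j => mx g (Sum.inr (Sum.inl i)) (Sum.inr (Sum.inr j)) with hS
  have e : mx g = mat3 1 0 r p 1 S 0 0 1 := by
    ext i j
    rcases i with i | i | i <;> rcases j with j | j | j <;>
      first
        | rfl
        | (rw [hg _ _ (by simp [siegel])]; simp [mat3, Matrix.one_apply])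
  have hq : ∀ z y, (z + r ⬝ᵥ y) ^ 2 + (z * (p ⬝ᵥ y) + (S *ᵥ y) ⬝ᵥ y) = z ^ 2 := fun z y => by
    have := mx_quad g (tri z 0 y)
    rw [e, mat3_mulVec, quad_tri, quad_tri] at this
    simpa [add_dotProduct] using this
  have hodd : OddPair r S := fun y => by
    have := hq 0 y
    rw [dotProduct_comm]
    linear_combination this
  have hp2 : p = (-2 : K) • r := funext fun i => by
    have h1 := hq 1 (Pi.single i 1)
    have h0 := hq 0 (Pi.single i 1)
    simp at h1 h0 ⊢
    linear_combination h1 - h0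
  exact ⟨r, S, hodd, mx_ext (by rw [mx_up, e, hp2])⟩

theorem exists_lo {g : Iso m K} (hg : g ∈ (siegel m K).V) : ∃ r S h, g = lo r S h := by
  rw [Siegel.mem_V] at hg
  simp only [siegel_mat] at hg
  set r : Fin m → K := fun j => mx g (Sum.inl ()) (Sum.inr (Sum.inl j)) with hr
  set p : Fin m → K := fun i => mx g (Sum.inr (Sum.inr i)) (Sum.inl ()) with hp
  set S : Matrix (Fin m) (Fin m) K := Matrix.of fun i j => mx g (Sum.inr (Sum.inr i)) (Sum.inr (Sum.inl j)) with hS
  have e : mx g = mat3 1 r 0 0 1 0 p S 1 := by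
    ext i j
    rcases i with i | i | i <;> rcases j with j | j | j <;>
      first
        | rfl
        | (rw [hg _ _ (by simp [siegel])]; simp [mat3, Matrix.one_apply])
  have hq : ∀ z x, (z + r ⬝ᵥ x) ^ 2 + (z * (x ⬝ᵥ p) + x ⬝ᵥ (S *ᵥ x)) = z ^ 2 := fun z x => by
    have := mx_quad g (tri z x 0)
    rw [e, mat3_mulVec, quad_tri, quad_tri] at this
    simpa [dotProduct_add] using this
  have hodd : OddPair r S := fun y => by
    have := hq 0 y
    linear_combination this
  have hp2 : p = (-2 : K) • r := funext fun i => by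
    have h1 := hq 1 (Pi.single i 1)
    have h0 := hq 0 (Pi.single i 1)
    simp at h1 h0 ⊢
    linear_combination h1 - h0
  exact ⟨r, S, hodd, mx_ext (by rw [mx_lo, e, hp2])⟩

theorem up_mem {r : Fin m → K} {S : Matrix (Fin m) (Fin m) K} (h : OddPair r S) :
    up r S h ∈ (siegel m K).U := by
  rw [Siegel.mem_U]
  intro x y hxy
  rw [siegel_mat, mx_up]
  rcases x with x | x | x <;> rcases y with y | y | y <;> simp [siegel] at hxy <;>
    simp [mat3, Matrix.one_apply]

theorem lo_mem {r : Fin m → K} {S : Matrix (Fin m) (Fin m) K} (h : OddPair r S) :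
    lo r S h ∈ (siegel m K).V := by
  rw [Siegel.mem_V]
  intro x y hxy
  rw [siegel_mat, mx_lo]
  rcases x with x | x | x <;> rcases y with y | y | y <;> simp [siegel] at hxy <;>
    simp [mat3, Matrix.one_apply]

theorem top_up_lo {r q : Fin m → K} {S T : Matrix (Fin m) (Fin m) K} (hS : OddPair r S) (hT : OddPair q T) :
    (siegel m K).top (up r S hS * lo q T hT) = oddTop r q S T := by
  ext i j
  show mx (up r S hS * lo q T hT) (Sum.inr (Sum.inl i)) (Sum.inr (Sum.inl j)) = _
  rw [mx_mul, mx_up, mx_lo]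
  simp [oddTop, mat3, Matrix.mul_apply, Fintype.sum_sum_type, vecMulVec_apply, Matrix.one_apply]
  ring

theorem det_of_mem {g : Iso m K} (hg : g ∈ commutator (Iso m K)) : (mx g).det = 1 :=
  congrArg Units.val (Abelianization.commutator_subset_ker
    (GeneralLinearGroup.det.comp (Cfsg.isometryGroup K (Cfsg.quadFormOdd m K)).subtype) hg)

theorem decomp (g : Iso m K) (hgdet : (mx g).det = 1) (hg : IsUnit ((siegel m K).top g).det) :
    ∃ v ∈ (siegel m K).V, ∃ X, ∃ u ∈ (siegel m K).U, g = v * (siegel m K).L X * u := by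
  classical
  set a0 := mx g (Sum.inl ()) (Sum.inl ())
  set w : Fin m → K := fun j => mx g (Sum.inl ()) (Sum.inr (Sum.inl j))
  set b : Fin m → K := fun j => mx g (Sum.inl ()) (Sum.inr (Sum.inr j))
  set a : Fin m → K := fun i => mx g (Sum.inr (Sum.inl i)) (Sum.inl ())
  set A : Matrix (Fin m) (Fin m) K := Matrix.of fun i j => mx g (Sum.inr (Sum.inl i)) (Sum.inr (Sum.inl j)) with hA
  set B : Matrix (Fin m) (Fin m) K := Matrix.of fun i j => mx g (Sum.inr (Sum.inl i)) (Sum.inr (Sum.inr j)) with hB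
  have htop : (siegel m K).top g = A := rfl
  rw [htop] at hg
  set p := A⁻¹ *ᵥ a
  set S := A⁻¹ * B
  have hAp : A *ᵥ p = a := by rw [mulVec_mulVec, mul_nonsing_inv _ hg, one_mulVec]
  have hAS : A * S = B := by rw [← Matrix.mul_assoc, mul_nonsing_inv _ hg, Matrix.one_mul]
  set α := a0 - w ⬝ᵥ p
  set β := b - w ᵥ* S
  have hq : ∀ z y, (α * z + β ⬝ᵥ y) ^ 2 = z ^ 2 - (z * (p ⬝ᵥ y) + (S *ᵥ y) ⬝ᵥ y) := fun z y => by
    have := mx_quad g (tri z (-(z • p + S *ᵥ y)) y)
    rw [eq_mat3 (mx g), mat3_mulVec, quad_tri, quad_tri] at this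
    have e1 : z • a + A *ᵥ (-(z • p + S *ᵥ y)) + B *ᵥ y = 0 := by
      rw [mulVec_neg, mulVec_add, mulVec_smul, hAp, mulVec_mulVec, hAS]; abel
    change (a0 * z + w ⬝ᵥ (-(z • p + S *ᵥ y)) + b ⬝ᵥ y) ^ 2 +
      (z • a + A *ᵥ (-(z • p + S *ᵥ y)) + B *ᵥ y) ⬝ᵥ _ = _ at this
    rw [e1, zero_dotProduct, add_zero, neg_dotProduct, add_dotProduct, smul_dotProduct, smul_eq_mul] at this
    rw [show (α * z + β ⬝ᵥ y) = a0 * z + w ⬝ᵥ (-(z • p + S *ᵥ y)) + b ⬝ᵥ y by
      simp only [α, β, dotProduct_neg, dotProduct_add, dotProduct_smul, smul_eq_mul, sub_dotProduct,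
        ← dotProduct_mulVec]
      ring]
    linear_combination this
  have hα : α ^ 2 = 1 := by simpa using hq 1 0
  set r := α • β with hr
  have hodd : OddPair r S := fun y => by
    have := hq 0 y
    rw [hr, smul_dotProduct, smul_eq_mul, mul_pow, hα, dotProduct_comm]
    linear_combination this
  have hp : p = (-2 : K) • r := funext fun i => by
    have h1 := hq 1 (Pi.single i 1)
    have h0 := hq 0 (Pi.single i 1)
    simp [hr] at h1 h0 ⊢
    linear_combination h1 - h0 - hα
  let X : GL (Fin m) K := GeneralLinearGroup.mk'' A hg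
  set u := up r S hodd with hu
  obtain ⟨v, hv⟩ : ∃ v, v = g * (lev X * u)⁻¹ := ⟨_, rfl⟩
  refine ⟨v, ?_, X, u, up_mem _, by show g = v * lev X * u; rw [hv]; group⟩
  have hX : X.val = A := rfl
  have hrow : ∀ i k, mx (lev X * u) (Sum.inr (Sum.inl i)) k = mx g (Sum.inr (Sum.inl i)) k := by
    intro i k
    rw [mx_mul, mx_lev, levM_eq, hu, mx_up, ← hp, hX]
    rcases k with k | k | k
    · simpa [mat3, Matrix.mul_apply, Fintype.sum_sum_type, mulVec, dotProduct] using congrFun hAp i
    · simp [mat3, Matrix.mul_apply, Fintype.sum_sum_type, Matrix.one_apply, hA]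
    · simpa [mat3, Matrix.mul_apply, Fintype.sum_sum_type, hB] using congrFun (congrFun hAS i) k
  have hvx : ∀ i k, mx v (Sum.inr (Sum.inl i)) k = (1 : Matrix (Idx m) (Idx m) K) (Sum.inr (Sum.inl i)) k := by
    intro i k
    rw [← mx_one, ← mul_inv_cancel (lev X * u), hv, mx_mul, mx_mul, Matrix.mul_apply, Matrix.mul_apply]
    exact Finset.sum_congr rfl fun j _ => by rw [hrow]
  have hvf : ∀ j, mx v *ᵥ tri 0 0 (Pi.single j 1) = tri 0 0 (Pi.single j 1) := by
    intro j
    set f : Idx m → K := tri 0 0 (Pi.single j 1)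
    have hB' : ∀ u, polB (qOdd m K) u f = u (Sum.inr (Sum.inl j)) := fun u => by
      simp [H43.polB_qOdd, f, Pi.single_apply]
    have hx : ∀ u, (mx v *ᵥ u) (Sum.inr (Sum.inl j)) = u (Sum.inr (Sum.inl j)) := fun u => by
      rw [mulVec, dotProduct, Finset.sum_congr rfl fun k _ => by rw [hvx j k]]
      simp [Matrix.one_apply]
    refine sub_eq_zero.1 ((hnd m K).2 _ fun z => ?_)
    obtain ⟨u, rfl⟩ : ∃ u, mx v *ᵥ u = z := ⟨mx v⁻¹ *ᵥ z, by
      rw [mulVec_mulVec, ← mx_mul, mul_inv_cancel, mx_one, one_mulVec]⟩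
    rw [map_sub, hB', hx, ← hB' u, H43.polB_apply, H43.polB_apply, QuadraticMap.polar, QuadraticMap.polar,
      ← mulVec_add, H43.coe_qOdd, mx_quad, mx_quad, mx_quad, sub_self]
  have hy : ∀ i j, mx v i (Sum.inr (Sum.inr j)) = (1 : Matrix (Idx m) (Idx m) K) i (Sum.inr (Sum.inr j)) := by
    intro i j
    have := congrFun (hvf j) i
    rw [mulVec, dotProduct, Finset.sum_eq_single (Sum.inr (Sum.inr j))] at this
    · simp at this
      rw [this]
      rcases i with i | i | i <;> simp [Matrix.one_apply, Pi.single_apply]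
    · intro k _ hk
      rcases k with k | k | k <;> simp_all [Pi.single_apply]
    · simp
  have hdu : (mx u).det = 1 := by
    rw [hu, mx_up, mat3, show (Matrix.of fun (_ : Unit) (_ : Unit) => (1 : K)) = 1 from ext fun _ _ => by simp,
      det_fromBlocks_one₁₁]
    have e : fromBlocks (1 : Matrix (Fin m) (Fin m) K) S 0 1 -
        (Matrix.of fun i (_ : Unit) => Sum.elim ((-2 : K) • r) (0 : Fin m → K) i) *
          (Matrix.of fun (_ : Unit) j => Sum.elim (0 : Fin m → K) r j) =
        fromBlocks 1 (S - vecMulVec ((-2 : K) • r) r) 0 1 := by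
      ext i j
      rcases i with i | i <;> rcases j with j | j <;> simp [Matrix.mul_apply, vecMulVec_apply] <;> ring
    rw [e, det_fromBlocks_zero₂₁]
    simp
  have hdv : (mx v).det = 1 := by
    have e0 : v * (lev X * u) = g := by rw [hv]; exact inv_mul_cancel_right g _
    rw [← e0, mx_mul, mx_mul, det_mul, det_mul, hdu, mul_one, mx_lev, levM, det_fromBlocks_zero₁₂,
      det_fromBlocks_zero₁₂, det_one, det_transpose, one_mul, ← det_mul X.val, Units.mul_inv, det_one,
      mul_one] at hgdet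
    exact hgdet
  have hzz : mx v (Sum.inl ()) (Sum.inl ()) = 1 := by
    rw [← fromBlocks_toBlocks (mx v)] at hdv
    set M := (mx v).toBlocks₂₂
    have hM : M = fromBlocks 1 0 M.toBlocks₂₁ 1 := by
      conv_lhs => rw [← fromBlocks_toBlocks M]
      congr 1 <;> ext i j
      · simpa [M, Matrix.toBlocks₁₁, Matrix.toBlocks₂₂, Matrix.one_apply] using hvx i (Sum.inr (Sum.inl j))
      · simpa [M, Matrix.toBlocks₁₂, Matrix.toBlocks₂₂] using hvx i (Sum.inr (Sum.inr j))
      · simpa [M, Matrix.toBlocks₂₂, Matrix.one_apply] using hy (Sum.inr (Sum.inr i)) j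
    have hinv : M * fromBlocks 1 0 (-M.toBlocks₂₁) 1 = 1 := by
      rw [hM]; simp [fromBlocks_multiply]
    haveI := invertibleOfRightInverse _ _ hinv
    rw [det_fromBlocks₂₂, show ⅟M = fromBlocks 1 0 (-M.toBlocks₂₁) 1 from invOf_eq_right_inv hinv,
      show M.det = 1 by rw [hM, det_fromBlocks_zero₁₂]; simp, one_mul, det_unique, Matrix.sub_apply] at hdv
    rw [sub_eq_iff_eq_add] at hdv
    refine hdv.trans ?_
    rw [add_eq_left, Matrix.mul_apply]
    refine Finset.sum_eq_zero fun k _ => ?_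
    rcases k with k | k
    · rw [show (mx v).toBlocks₂₁ (Sum.inl k) () = 0 by simpa [Matrix.toBlocks₂₁] using hvx k (Sum.inl ()), mul_zero]
    · rw [Matrix.mul_apply, Finset.sum_eq_zero, zero_mul]
      intro l _
      rcases l with l | l
      · simp
      · rw [show (mx v).toBlocks₁₂ () (Sum.inr l) = 0 by simpa [Matrix.toBlocks₁₂] using hy (Sum.inl ()) l, zero_mul]
  rw [Siegel.mem_V]
  intro x y hxy
  rw [siegel_mat]
  rcases x with x | x | x <;> rcases y with y | y | y <;> simp [siegel] at hxy <;>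
    first
      | exact hzz
      | exact hvx _ _
      | exact hy _ _

theorem invert (g : Iso m K) : ∃ u ∈ (siegel m K).U, IsUnit ((siegel m K).top (u * g)).det := by
  classical
  set w : Fin m → K := fun j => mx g (Sum.inl ()) (Sum.inr (Sum.inl j)) with hw
  set A : Matrix (Fin m) (Fin m) K := Matrix.of fun i j => mx g (Sum.inr (Sum.inl i)) (Sum.inr (Sum.inl j)) with hA
  set C : Matrix (Fin m) (Fin m) K := Matrix.of fun i j => mx g (Sum.inr (Sum.inr i)) (Sum.inr (Sum.inl j)) with hC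
  have hg0 : ∀ x, mx g *ᵥ tri 0 x 0 = tri (w ⬝ᵥ x) (A *ᵥ x) (C *ᵥ x) := fun x => by
    conv_lhs => rw [eq_mat3 (mx g), mat3_mulVec]
    simp [w, A, C]
  have hq : ∀ x, (A *ᵥ x) ⬝ᵥ (C *ᵥ x) = -(w ⬝ᵥ x) ^ 2 := fun x => by
    have := mx_quad g (tri 0 x 0)
    rw [hg0, quad_tri, quad_tri, dotProduct_zero] at this
    linear_combination this
  obtain ⟨v₀, hv₀⟩ := H31.CSQ.exists_kill hq
  set A₁ := A + vecMulVec v₀ w with hA₁
  have hA₁x : ∀ x, A₁ *ᵥ x = A *ᵥ x + (w ⬝ᵥ x) • v₀ := fun x => by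
    simp [A₁, add_mulVec, vecMulVec_mulVec]
  have hwx : ∀ x, v₀ ⬝ᵥ C *ᵥ x = w ⬝ᵥ x := fun x => by rw [dotProduct_mulVec, hv₀]
  obtain ⟨S₁, v, hS₁, hu, -⟩ := H31.CSQ.exists_orth_shear (A := A₁) (C := C) (fun x h1 h2 => by
      have h3 : w ⬝ᵥ x = 0 := by rw [← hwx, h2, dotProduct_zero]
      rw [hA₁x, h3, zero_smul, add_zero] at h1
      have hinj : Function.Injective fun x => mx g *ᵥ x :=
        mulVec_injective_iff_isUnit.2 (g : GL (Idx m) K).isUnit
      have h4 : tri (0 : K) x 0 = 0 := hinj (by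
        simp only [hg0, h1, h2, h3, mulVec_zero]
        funext i; rcases i with i | i | i <;> rfl)
      exact funext fun i => congrFun h4 (Sum.inr (Sum.inl i)))
    (fun x => by
      rw [hA₁x, add_dotProduct, smul_dotProduct, smul_eq_mul, hq, hwx]
      ring)
  set r := v - v₀ with hr
  set S := S₁ + vecMulVec (v₀ + (2 : K) • r) v₀ with hS
  have hodd : OddPair r S := fun y => by
    simp only [hS, add_mulVec, dotProduct_add, vecMulVec_mulVec, op_smul_eq_smul, dotProduct_smul, smul_eq_mul,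
      hS₁ y]
    simp only [hr, dotProduct_comm y, sub_dotProduct, add_dotProduct, smul_dotProduct, smul_eq_mul]
    ring
  refine ⟨up r S hodd, up_mem _, ?_⟩
  have e : (siegel m K).top (up r S hodd * g) = A₁ + S₁ * C := by
    have e1 : S * C = S₁ * C + vecMulVec (v₀ + (2 : K) • r) w := by
      rw [hS, Matrix.add_mul, vecMulVec_mul, hv₀]
    ext i j
    show mx (up r S hodd * g) (Sum.inr (Sum.inl i)) (Sum.inr (Sum.inl j)) = _
    rw [mx_mul, mx_up]
    have e2 : ∑ k, S i k * C k j = (S₁ * C) i j + (v₀ + (2 : K) • r) i * w j := by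
      rw [← Matrix.mul_apply, e1, Matrix.add_apply, vecMulVec_apply]
    simp [mat3, Matrix.mul_apply, Fintype.sum_sum_type, Matrix.one_apply, A₁, vecMulVec_apply, w, A, C] at e2 ⊢
    linear_combination e2
  rwa [e]

/-- The Weyl element exchanging the two radicals. -/
noncomputable def wS : Iso m K :=
  mk (mat3 (fromBlocks (0 : Matrix (Fin m) (Fin m) K) (1 : Matrix (Fin m) (Fin m) K) 1 0).det (0 : Fin m → K) 0 0 0 (1 : Matrix (Fin m) (Fin m) K) 0 1 0) fun v => by
    have hd : (fromBlocks (0 : Matrix (Fin m) (Fin m) K) (1 : Matrix (Fin m) (Fin m) K) 1 0).det ^ 2 = 1 := by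
      rw [sq, ← det_mul, fromBlocks_multiply]
      simp
    rw [tri_eta v, mat3_mulVec, quad_tri, quad_tri]
    simp only [zero_dotProduct, add_zero, smul_zero, zero_mulVec, one_mulVec, zero_add, mul_pow, hd, one_mul]
    rw [dotProduct_comm]

theorem wS_det : (mx (wS : Iso m K)).det = 1 := by
  rw [wS, mx_mk]
  have e : mat3 (fromBlocks (0 : Matrix (Fin m) (Fin m) K) (1 : Matrix (Fin m) (Fin m) K) 1 0).det (0 : Fin m → K) 0 0 0 (1 : Matrix (Fin m) (Fin m) K) 0 1 0 =
      fromBlocks (Matrix.of fun _ _ => (fromBlocks (0 : Matrix (Fin m) (Fin m) K) (1 : Matrix (Fin m) (Fin m) K) 1 0).det) 0 0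
        (fromBlocks (0 : Matrix (Fin m) (Fin m) K) (1 : Matrix (Fin m) (Fin m) K) 1 0) := by
    ext i j
    rcases i with i | i | i <;> rcases j with j | j | j <;> simp [mat3]
  rw [e, det_fromBlocks_zero₁₂, det_unique, of_apply, ← det_mul, fromBlocks_multiply]
  simp

theorem conj_wS_lev (X : GL (Fin m) K) : wS * lev X * wS⁻¹ = lev (trInv X) := by
  rw [mul_inv_eq_iff_eq_mul]
  refine mx_ext ?_
  rw [mx_mul, mx_mul, mx_lev, mx_lev, wS, mx_mk]
  ext i j
  rcases i with i | i | i <;> rcases j with j | j | j <;>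
    simp [levM, mat3, Matrix.mul_apply, Fintype.sum_sum_type, Matrix.one_apply, trInv, Units.inv_mk]

theorem conj_wS_V {v : Iso m K} (hv : v ∈ (siegel m K).V) : wS * v * wS⁻¹ ∈ (siegel m K).U := by
  obtain ⟨q, T, h, rfl⟩ := exists_lo hv
  set α := (fromBlocks (0 : Matrix (Fin m) (Fin m) K) (1 : Matrix (Fin m) (Fin m) K) 1 0).det with hα
  have hd : α ^ 2 = 1 := by
    rw [hα, sq, ← det_mul, fromBlocks_multiply]
    simp
  have hodd : OddPair (α • q) T := fun y => by rw [smul_dotProduct, smul_eq_mul, mul_pow, hd, one_mul, h y]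
  have e : wS * lo q T h * wS⁻¹ = up (α • q) T hodd := by
    rw [mul_inv_eq_iff_eq_mul]
    refine mx_ext ?_
    rw [mx_mul, mx_mul, mx_lo, mx_up, wS, mx_mk, ← hα]
    ext i j
    rcases i with i | i | i <;> rcases j with j | j | j <;>
      simp [mat3, Matrix.mul_apply, Fintype.sum_sum_type, Matrix.one_apply]
    all_goals linear_combination (-2 * q i) * hd
  rw [e]
  exact up_mem _

theorem theta_det (g : Iso m K) :
    LinearMap.det ((theta m K g).1 : (Idx m → K) →ₗ[K] (Idx m → K)) = (mx g).det := by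
  rw [← LinearMap.det_toLin']
  congr 1

theorem mem_omega_iff (hK : 9 ≤ Fintype.card K) (g : Iso m K) :
    g ∈ commutator (Iso m K) ↔ (mx g).det = 1 ∧ H43.spinor (theta m K g) = 1 := by
  rw [← theta_det, ← H44.dickson_eq_one_iff_det (hnd m K) (hgen hK _) two_ne_zero,
    ← H44.mem_commutator_iff (hnd m K) (hgen hK _)]
  have e : (commutator (Iso m K)).map (theta m K : Iso m K →* orthGroup (qOdd m K)) =
      commutator (orthGroup (qOdd m K)) := by
    rw [commutator_def, Subgroup.map_commutator, Subgroup.map_top_of_surjective _ (theta m K).surjective,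
      commutator_def]
  rw [← e]
  exact (Subgroup.mem_map_iff_mem (theta m K).injective).symm

theorem lev_det (X : GL (Fin m) K) : (mx (lev X)).det = 1 := by
  rw [mx_lev, levM, det_fromBlocks_zero₁₂, det_fromBlocks_zero₁₂, det_one, one_mul, det_transpose, ← det_mul,
    Units.mul_inv, det_one]

theorem lev_omega_of_det {X : GL (Fin (n + 2)) K} (hK : 9 ≤ Fintype.card K) (hX : X.val.det = 1) :
    lev X ∈ commutator (Iso (n + 2) K) := by
  have hle : (commutator (GL (Fin (n + 2)) K)).map lev ≤ commutator (Iso (n + 2) K) := by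
    rw [commutator_def, Subgroup.map_commutator, commutator_def]
    exact Subgroup.commutator_mono le_top le_top
  refine hle ⟨X, ?_, rfl⟩
  have hp : commutator (Matrix.SpecialLinearGroup (Fin (n + 2)) K) = ⊤ :=
    Cfsg.Agent.H9.commutator_SL_eq_top_of_square
      (let ⟨a, ha⟩ := exists_sq_ne_one (K := K) (by omega); ⟨a, a.ne_zero, ha⟩)
  have hle2 : (commutator (Matrix.SpecialLinearGroup (Fin (n + 2)) K)).map Matrix.SpecialLinearGroup.toGL ≤
      commutator (GL (Fin (n + 2)) K) := by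
    rw [commutator_def, Subgroup.map_commutator, commutator_def]
    exact Subgroup.commutator_mono le_top le_top
  exact hle2 ⟨⟨X, hX⟩, by rw [hp]; trivial, Units.ext rfl⟩

theorem lev_corner_spinor (hK : 9 ≤ Fintype.card K) (t : Kˣ) :
    H43.spinor (theta (n + 2) K (lev (cornerHom (t, 1)))) = H43.sqc (t : K) := by
  have hp : H43.HypPair (qOdd (n + 2) K) (Pi.single (Sum.inr (Sum.inl 0)) 1) (Pi.single (Sum.inr (Sum.inr 0)) 1) :=
    ⟨by simp [H43.coe_qOdd, Cfsg.quadFormOdd, Pi.single_apply],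
      by simp [H43.coe_qOdd, Cfsg.quadFormOdd, Pi.single_apply],
      by simp [H43.polB_qOdd, Pi.single_apply]⟩
  have e : theta (n + 2) K (lev (cornerHom (t, 1))) =
      H43.hscale (qOdd (n + 2) K) (Pi.single (Sum.inr (Sum.inl 0)) 1) (Pi.single (Sum.inr (Sum.inr 0)) 1) (t : K) := by
    refine H43.orth_ext fun x => ?_
    rw [theta_apply, mx_lev, H43.hscale_apply hp t.ne_zero, levM_eq, tri_eta x, mat3_mulVec]
    rw [← map_inv, Prod.inv_mk, inv_one, coe_cornerHom, coe_cornerHom]
    funext i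
    rcases i with i | i | i
    · simp [Pi.single_apply]
    · cases i using Fin.cases <;>
        simp [H43.polB_qOdd, Pi.single_apply, mulVec, dotProduct, Fin.sum_univ_succ, Matrix.one_apply] <;> ring
    · cases i using Fin.cases <;>
        simp [H43.polB_qOdd, Pi.single_apply, mulVec, dotProduct, Fin.sum_univ_succ, Matrix.one_apply] <;> ring
  rw [e]
  exact (H44.hscale_invariants (hnd (n + 2) K) (hgen hK _) hp t.ne_zero).2

theorem lev_spinor (hK : 9 ≤ Fintype.card K) (X : GL (Fin (n + 2)) K) :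
    H43.spinor (theta (n + 2) K (lev X)) = H43.sqc X.val.det := by
  set t := GeneralLinearGroup.det X with ht
  have h1 : ((cornerHom (t, 1))⁻¹ * X : GL (Fin (n + 2)) K).val.det = 1 := by
    rw [← map_inv, Units.val_mul, det_mul, coe_cornerHom, det_border_zero_col]
    simp [ht]
    exact inv_mul_cancel₀ ((isUnit_iff_isUnit_det _).1 X.isUnit).ne_zero
  have hs := ((mem_omega_iff hK _).1 (lev_omega_of_det hK h1)).2
  conv_lhs => rw [← mul_inv_cancel_left (cornerHom (t, 1)) X]
  rw [map_mul, map_mul, H44.spinor_mul (hnd _ K) (hgen hK _), hs, mul_one, lev_corner_spinor hK, ht,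
    GeneralLinearGroup.val_det_apply]

theorem exists_r (hK : 9 ≤ Fintype.card K) (c l : Kˣ) :
    ∃ r ∈ commutator (Iso (n + 2) K),
      wS * lev (cls c l (n + 1)) * wS⁻¹ = r * lev (cls c l (n + 1)) * r⁻¹ := by
  obtain ⟨a, ha, hs⟩ := H43.sqc_surjective (H43.spinor (theta (n + 2) K wS))
  set z : GL (Fin (n + 2)) K := cornerHom (Units.mk0 a ha, 1) with hz
  have hc : Commute z (cls c l (n + 1)) := by
    rw [hz, cls]; exact Commute.map (Prod.ext (mul_comm _ _) (by simp)) _
  refine ⟨wS * lev z, (mem_omega_iff hK _).2 ⟨?_, ?_⟩, ?_⟩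
  · rw [mx_mul, det_mul, wS_det, lev_det, one_mul]
  · rw [map_mul, H44.spinor_mul (hnd _ K) (hgen hK _), hz, lev_corner_spinor hK, Units.val_mk0, hs,
      H43.sqClass_mul_self]
  · rw [show wS * lev z * lev (cls c l (n + 1)) * (wS * lev z)⁻¹ =
      wS * (lev z * lev (cls c l (n + 1)) * (lev z)⁻¹) * wS⁻¹ by group, (hc.map lev).eq, mul_inv_cancel_right]

theorem fix {c l : Kˣ} (hc : (c : K) ≠ 1) (h2 : (l : K) ^ 2 ≠ 1) (h3 : (c : K) * l ≠ 1) {N : ℕ}
    (hN : ∀ x : K, x ^ N = 1 → x = 1) {u : Iso (n + 2) K}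
    (hu : u ∈ (siegel (n + 2) K).U ∨ u ∈ (siegel (n + 2) K).V)
    (h : Commute (lev (diagU (Fin.cons (c ^ N) fun _ : Fin (n + 1) => l ^ N))) u) : u = 1 := by
  set d : Fin (n + 2) → Kˣ := Fin.cons (c ^ N) fun _ => l ^ N with hd
  set D : Idx (n + 2) → K := Sum.elim (fun _ => 1) (Sum.elim (fun i => (d i : K)) fun i => (d i : K)⁻¹) with hD
  have hlev : mx (lev (diagU d)) = Matrix.diagonal D := by
    rw [mx_lev, levM, hD, ← fromBlocks_diagonal, ← fromBlocks_diagonal, diagonal_one]
    congr 2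
    rw [Matrix.coe_units_inv, show (diagU d : Matrix (Fin (n + 2)) (Fin (n + 2)) K) = diagonal fun i => (d i : K) from rfl,
      Matrix.inv_eq_left_inv (B := diagonal fun i => (d i : K)⁻¹) (by simp [diagonal_mul_diagonal]),
      diagonal_transpose]
  have hl1 : (l : K) ≠ 1 := fun e => h2 (by rw [e, one_pow])
  have hd1 : ∀ i, (d i : K) ≠ 1 := by
    intro i
    induction i using Fin.cases <;> simp only [hd, Fin.cons_zero, Fin.cons_succ, Units.val_pow_eq_pow_val]
    · exact fun e => hc (hN _ e)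
    · exact fun e => hl1 (hN _ e)
  have hne : ∀ i j, i ≠ j → (d i : K) * d j ≠ 1 := by
    intro i j hij
    induction i using Fin.cases <;> induction j using Fin.cases <;>
      simp only [hd, Fin.cons_zero, Fin.cons_succ, Units.val_pow_eq_pow_val, ← mul_pow] <;>
      intro h
    · exact hij rfl
    · exact h3 (hN _ h)
    · exact h3 (by rw [mul_comm]; exact hN _ h)
    · exact h2 (by rw [sq]; exact hN _ h)
  have hinv : ∀ i j, (d i : K) = (d j : K)⁻¹ → i = j := fun i j e => by
    by_contra hij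
    exact hne i j hij (by rw [e, inv_mul_cancel₀ (Units.ne_zero _)])
  have hdi : ∀ i, (d i : K)⁻¹ ≠ 1 := fun i e => hd1 i (inv_eq_one.1 e)
  have he : mx (lev (diagU d)) * mx u = mx u * mx (lev (diagU d)) := by rw [← mx_mul, ← mx_mul, h.eq]
  rw [hlev] at he
  have hent : ∀ x y, D x ≠ D y → mx u x y = 0 := fun x y hxy => by
    have := congrFun (congrFun he x) y
    rw [diagonal_mul, mul_diagonal] at this
    have h0 : (D x - D y) * mx u x y = 0 := by rw [sub_mul, this]; ring
    exact (mul_eq_zero.1 h0).resolve_left (sub_ne_zero.2 hxy)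
  have hsame : ∀ x y, (siegel (n + 2) K).ε x = (siegel (n + 2) K).ε y →
      mx u x y = (1 : Matrix (Idx (n + 2)) (Idx (n + 2)) K) x y := fun x y e => by
    rcases hu with hu | hu
    · exact (Siegel.mem_U _).1 hu _ _ e.le
    · exact (Siegel.mem_V _).1 hu _ _ e.ge
  refine mx_ext (eq_one_of_commute_diagonal he fun x y hxy => ?_)
  rcases x with x | x | x <;> rcases y with y | y | y
  · exact hsame _ _ rfl
  · exact absurd hxy (Ne.symm (hd1 y))
  · exact absurd hxy (Ne.symm (hdi y))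
  · exact absurd hxy (hd1 x)
  · exact hsame _ _ rfl
  · obtain rfl := hinv x y hxy
    rcases hu with hu | hu
    · obtain ⟨r, S, hodd, rfl⟩ := exists_up hu
      have hr : r = 0 := funext fun i => by
        have := hent (Sum.inl ()) (Sum.inr (Sum.inr i)) (Ne.symm (hdi i))
        simpa [mx_up, mat3] using this
      subst hr
      simp [mx_up, mat3, hodd.alt.diag]
    · exact (Siegel.mem_V _).1 hu _ _ (by simp [siegel])
  · exact absurd hxy (hdi x)
  · obtain rfl := hinv y x hxy.symm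
    rcases hu with hu | hu
    · exact (Siegel.mem_U _).1 hu _ _ (by simp [siegel])
    · obtain ⟨r, S, hodd, rfl⟩ := exists_lo hu
      have hr : r = 0 := funext fun i => by
        have := hent (Sum.inl ()) (Sum.inr (Sum.inl i)) (Ne.symm (hd1 i))
        simpa [mx_lo, mat3] using this
      subst hr
      simp [mx_lo, mat3, hodd.alt.diag]
  · exact hsame _ _ rfl

theorem central (hn : 1 ≤ n) {X : GL (Fin (n + 2)) K} (h : ∀ u ∈ (siegel (n + 2) K).U, Commute (lev X) u) :
    X = 1 := by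
  classical
  have hc : ∀ r S, OddPair r S → X.val * S = S * (X⁻¹ : GL (Fin (n + 2)) K).valᵀ ∧ X.val *ᵥ ((-2 : K) • r) = (-2 : K) • r := by
    intro r S hodd
    have e := congrArg mx (h _ (up_mem hodd)).eq
    rw [mx_mul, mx_mul, mx_lev, mx_up] at e
    constructor
    · ext i j
      have := congrFun (congrFun e (Sum.inr (Sum.inl i))) (Sum.inr (Sum.inr j))
      simpa [levM, mat3, Matrix.mul_apply, Fintype.sum_sum_type, Matrix.one_apply] using this
    · funext i
      have := congrFun (congrFun e (Sum.inr (Sum.inl i))) (Sum.inl ())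
      simpa [levM, mat3, Matrix.mul_apply, Fintype.sum_sum_type, Matrix.one_apply, mulVec, dotProduct] using this
  obtain ⟨a, ha, -⟩ := scalar_of_alt (A := X.val) (B := (X⁻¹ : GL (Fin (n + 2)) K).valᵀ) (by omega)
    (by rw [transpose_transpose, Units.inv_mul]) fun S hS => (hc 0 S (oddPair_zero hS)).1
  have h1 := congrFun (hc _ _ (oddPair_rank_one (Pi.single 0 1))).2 0
  rw [ha] at h1
  simp [smul_mulVec, two_ne_zero] at h1
  exact Units.ext (by rw [ha, h1, one_smul, Units.val_one])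

theorem hyp (hn : 1 ≤ n) (hK : 9 ≤ Fintype.card K) {c l : Kˣ} (hcl : c ≠ l) (hc : (c : K) ≠ 1)
    (h2 : (l : K) ^ 2 ≠ 1) (h3 : (c : K) * l ≠ 1) (hsq : IsSquare ((c : K) * (l : K) ^ (n + 1))) :
    Siegel.Hyp (siegel (n + 2) K) (commutator (Iso (n + 2) K)) c l (sqU K) where
  normal := inferInstance
  comm_le := le_rfl
  sq_mem x := ⟨x, rfl⟩
  ne := hcl
  cls_mem := by
    refine (mem_omega_iff hK _).2 ⟨lev_det _, (lev_spinor hK (cls c l (n + 1))).trans ?_⟩
    rw [det_cls, H43.sqc_eq_one_iff (mul_ne_zero c.ne_zero (pow_ne_zero _ l.ne_zero))]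
    exact hsq
  fixU _ hN _ hu h := fix hc h2 h3 hN (Or.inl hu) h
  fixV _ hN _ hu h := fix hc h2 h3 hN (Or.inr hu) h
  det_mem X hX t ht := by
    have h1 := ((mem_omega_iff hK _).1 hX).2
    change H43.spinor (theta _ K (lev X)) = 1 at h1
    rw [lev_spinor hK X, ← ht, H43.sqc_eq_one_iff t.ne_zero] at h1
    obtain ⟨r, hr⟩ := h1
    exact ⟨Units.mk0 r fun e => t.ne_zero (by rw [hr, e, mul_zero]), Units.ext (by simp [hr, sq])⟩
  decomp g hg hu := decomp g (det_of_mem hg) hu
  invert g _ := invert g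
  ur_inj u hu h := by
    obtain ⟨r, S, hodd, rfl⟩ := exists_up hu
    have hS0 : S = 0 := by
      ext i j
      have := congrFun (congrFun h i) j
      change mx (up r S hodd) (Sum.inr (Sum.inl i)) (Sum.inr (Sum.inr j)) = 0 at this
      simpa [mx_up, mat3] using this
    subst hS0
    have := hodd.eq_zero
    subst this
    refine mx_ext ?_
    rw [mx_up, mx_one]
    ext i j
    rcases i with i | i | i <;> rcases j with j | j | j <;> simp [mat3, Matrix.one_apply]
  moves u hu hu1 s hs hs1 := by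
    obtain ⟨r, S, hodd, rfl⟩ := exists_up hu
    have h0 : ¬ (r = 0 ∧ S = 0) := by
      rintro ⟨rfl, rfl⟩
      refine hu1 (mx_ext ?_)
      rw [mx_up, mx_one]
      ext i j
      rcases i with i | i | i <;> rcases j with j | j | j <;> simp [mat3, Matrix.one_apply]
    obtain ⟨σ, rfl⟩ := hs
    obtain ⟨q₁, T₁, q₂, T₂, hT₁, hT₂, hne, hd₁, hd₂⟩ := moves_odd (by omega) hodd h0 σ.ne_zero
      (fun e => hs1 (Units.ext (by simpa using e)))
    exact ⟨lo q₁ T₁ hT₁, lo_mem _, lo q₂ T₂ hT₂, lo_mem _, by simpa only [top_up_lo] using hne,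
      by rw [top_up_lo]; simpa using hd₁, by rw [top_up_lo]; simpa using hd₂⟩
  central X _ h g _ := by
    show Commute (lev X) g
    rw [central hn h, map_one]
    exact Commute.one_left g
  opp := by
    obtain ⟨r, hr, he⟩ := exists_r (n := n) hK c l
    exact ⟨wS, fun v hv => conj_wS_V hv, fun X => ⟨trInv X, conj_wS_lev X⟩, r, hr, he⟩

theorem hreal (hn : 1 ≤ n) (hK : 9 ≤ Fintype.card K) {c l : Kˣ} (hcl : c ≠ l) (hc : (c : K) ≠ 1)
    (h2 : (l : K) ^ 2 ≠ 1) (h3 : (c : K) * l ≠ 1) (hsq : IsSquare ((c : K) * (l : K) ^ (n + 1))) :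
    IsConj (Siegel.cG (hyp hn hK hcl hc h2 h3 hsq)) (Siegel.cG (hyp hn hK hcl hc h2 h3 hsq))⁻¹ := by
  set C := cls c l (n + 1) with hC
  have hcomm : ∀ t : Kˣ, ∃ z : GL (Fin (n + 2)) K, Commute z C ∧ z.val.det = t := fun t =>
    ⟨cornerHom (t, 1), by rw [hC, cls]; exact Commute.map (Prod.ext (mul_comm _ _) (by simp)) _, by
      simp [det_border_zero_col]⟩
  obtain ⟨P, hP1, hP⟩ := exists_det_one hcomm (cls_transpose c l)
  obtain ⟨r, hr, he⟩ := exists_r (n := n) hK c l
  refine isConj_iff.2 ⟨⟨r⁻¹ * lev P, mul_mem (inv_mem hr) (lev_omega_of_det hK hP1)⟩, Subtype.ext ?_⟩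
  show r⁻¹ * lev P * lev C * (r⁻¹ * lev P)⁻¹ = (lev C)⁻¹
  rw [show r⁻¹ * lev P * lev C * (r⁻¹ * lev P)⁻¹ = r⁻¹ * (lev P * lev C * (lev P)⁻¹) * r by group,
    ← map_inv lev P, ← map_mul, ← map_mul, hP, map_inv, ← conj_wS_lev, hC, he]
  group

end elements

/-- Thompson's class square for `PΩ` in odd dimension. -/
theorem pomega_odd_square [Fintype K] (hK : 9 ≤ Fintype.card K) (hm : 3 ≤ m) (hodd : Odd (Fintype.card K))
    {G : Type*} [Group G] (e : G ≃* Cfsg.POmega K (Cfsg.quadFormOdd m K)) :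
    ∃ c : G, ∀ g : G, ∃ x y : G, g = (x * c * x⁻¹) * (y * c * y⁻¹) := by
  classical
  haveI : NeZero (2 : K) := ⟨Ring.two_ne_zero fun h => by
    have h1 := FiniteField.even_card_iff_char_two.1 h
    have h2 := Nat.odd_iff.1 hodd
    omega⟩
  obtain ⟨k, rfl⟩ : ∃ k, m = k + 2 := ⟨m - 2, by omega⟩
  obtain ⟨a, ha⟩ : ∃ a : Kˣ, (a : K) ^ 4 ≠ 1 := by
    by_contra h
    push Not at h
    have hsub : (Finset.univ.erase (0 : K)) ⊆ (Polynomial.nthRoots 4 (1 : K)).toFinset := fun x hx => by
      rw [Multiset.mem_toFinset, Polynomial.mem_nthRoots (by norm_num)]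
      exact h (Units.mk0 x (Finset.ne_of_mem_erase hx))
    have := (Finset.card_le_card hsub).trans ((Multiset.toFinset_card_le _).trans (Polynomial.card_nthRoots 4 1))
    rw [Finset.card_erase_of_mem (Finset.mem_univ _), Finset.card_univ] at this
    omega
  set l : Kˣ := a ^ 2 with hl
  have h2 : (l : K) ^ 2 ≠ 1 := by rwa [hl, Units.val_pow_eq_pow_val, ← pow_mul]
  obtain ⟨b, hb1, hb2, hb3⟩ : ∃ b : Kˣ, (b : K) ^ 2 ≠ 1 ∧ (b : K) ^ 2 ≠ l ∧ (b : K) ^ 2 * l ≠ 1 := by
    by_contra h
    push Not at h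
    let R : K → Finset K := fun x => (Polynomial.nthRoots 2 x).toFinset
    have hR : ∀ x, (R x).card ≤ 2 := fun x => (Multiset.toFinset_card_le _).trans (Polynomial.card_nthRoots 2 x)
    have hsub : (Finset.univ.erase (0 : K)) ⊆ R 1 ∪ (R l ∪ R (l : K)⁻¹) := fun x hx => by
      have hx0 := Finset.ne_of_mem_erase hx
      simp only [R, Finset.mem_union, Multiset.mem_toFinset, Polynomial.mem_nthRoots (by norm_num : 0 < 2)]
      by_cases h1 : x ^ 2 = 1
      · exact Or.inl h1
      by_cases h4 : x ^ 2 = l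
      · exact Or.inr (Or.inl h4)
      exact Or.inr (Or.inr (eq_inv_of_mul_eq_one_left (h (Units.mk0 x hx0) h1 h4)))
    have := (Finset.card_le_card hsub).trans ((Finset.card_union_le _ _).trans
      (Nat.add_le_add le_rfl (Finset.card_union_le _ _)))
    rw [Finset.card_erase_of_mem (Finset.mem_univ _), Finset.card_univ] at this
    have := hR 1
    have := hR (l : K)
    have := hR (l : K)⁻¹
    omega
  have hsq : IsSquare (((b ^ 2 : Kˣ) : K) * (l : K) ^ (k + 1)) := by
    refine IsSquare.mul ⟨b, by rw [Units.val_pow_eq_pow_val, sq]⟩ (IsSquare.pow _ ⟨a, ?_⟩)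
    rw [hl, Units.val_pow_eq_pow_val, sq]
  have hcl : b ^ 2 ≠ l := fun e' => hb2 (by rw [← Units.val_pow_eq_pow_val, e'])
  exact Siegel.square (hyp (by omega) hK hcl (by simpa using hb1) h2 (by simpa using hb3) hsq) hK
    (hreal (by omega) hK hcl (by simpa using hb1) h2 (by simpa using hb3) hsq) e

end H31.CSQ.Odd
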