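import Cfsg.Agent.H31.ClassSq.OrthCommon

/-!
Determinant moves for the Siegel radical of an odd dimensional orthogonal group.
-/

set_option autoImplicit false
set_option linter.unusedSectionVars false

namespace H31.CSQ.Orth

open Matrix

variable {K : Type*} [Field K] {m : ℕ}

/-- Pairs `(r, S)` parametrising a Siegel radical in odd dimension. -/
def OddPair (r : Fin m → K) (S : Matrix (Fin m) (Fin m) K) : Prop := ∀ y, y ⬝ᵥ S *ᵥ y = -(r ⬝ᵥ y) ^ 2

theorem oddPair_rank_one (k : Fin m → K) : OddPair k (-vecMulVec k k) := fun y => by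
  simp [neg_mulVec, vecMulVec_mulVec, op_smul_eq_smul, dotProduct_comm y k, sq]

theorem oddPair_zero {S : Matrix (Fin m) (Fin m) K} (hS : Alt S) : OddPair (0 : Fin m → K) S := fun y => by
  simp [hS y]

theorem OddPair.alt {S : Matrix (Fin m) (Fin m) K} (h : OddPair (0 : Fin m → K) S) : Alt S := fun y => by
  simpa using h y

theorem OddPair.eq_zero {r : Fin m → K} (h : OddPair r (0 : Matrix (Fin m) (Fin m) K)) : r = 0 := funext fun i => by
  simpa using h (Pi.single i 1)

/-- The block moved by a pair of opposite radical elements. -/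
def oddTop (r q : Fin m → K) (S T : Matrix (Fin m) (Fin m) K) : Matrix (Fin m) (Fin m) K :=
  1 + (vecMulVec ((-2 : K) • r) q + S * T)

/-- Two elements of the opposite radical with a prescribed square determinant, not proportional. -/
theorem moves_odd (hm : 3 ≤ m) {r : Fin m → K} {S : Matrix (Fin m) (Fin m) K} (h : OddPair r S)
    (hne : ¬ (r = 0 ∧ S = 0)) {σ : K} (hσ0 : σ ≠ 0) (hσ : σ ^ 2 ≠ 1) :
    ∃ q₁ T₁ q₂ T₂, OddPair q₁ T₁ ∧ OddPair q₂ T₂ ∧
      (∀ ν : K, oddTop r q₂ S T₂ ≠ ν • oddTop r q₁ S T₁) ∧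
      (oddTop r q₁ S T₁).det = σ ^ 2 ∧ (oddTop r q₂ S T₂).det = σ ^ 2 := by
  classical
  by_cases hr : r = 0
  · subst hr
    obtain ⟨T₁, T₂, h1, h2, h3, h4, h5⟩ := moves_alt hm h.alt (fun e => hne ⟨rfl, e⟩) hσ0 hσ
    refine ⟨0, T₁, 0, T₂, oddPair_zero h1, oddPair_zero h2, ?_⟩
    simp only [oddTop, smul_zero, zero_vecMulVec, zero_add]; exact ⟨h3, h4, h5⟩
  obtain ⟨i, hi⟩ : ∃ i, r i ≠ 0 := by
    by_contra hc; push Not at hc; exact hr (funext hc)
  set k : Fin m → K := ((1 - σ) / r i) • Pi.single i 1 with hk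
  have hrk : r ⬝ᵥ k = 1 - σ := by simp [hk, hi]
  have hk0 : k ≠ 0 := fun e => by
    rw [e, dotProduct_zero] at hrk
    exact hσ (by rw [← sub_eq_zero.1 hrk.symm, one_pow])
  obtain ⟨e, he⟩ : ∃ e, e ⬝ᵥ k ≠ 0 := by
    by_contra hc; push Not at hc
    exact hk0 (funext fun j => by simpa using hc (Pi.single j 1))
  obtain ⟨x, hx0, hrx, hex⟩ := exists_orth2 hm r e
  have hform : ∀ q : Fin m → K, oddTop r q S (-vecMulVec q q) = 1 + vecMulVec ((-2 : K) • r - S *ᵥ q) q :=
    fun q => by rw [oddTop, Matrix.mul_neg, mul_vecMulVec, sub_vecMulVec, sub_eq_add_neg]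
  have hdot : ∀ q : Fin m → K, r ⬝ᵥ q = 1 - σ → q ⬝ᵥ ((-2 : K) • r - S *ᵥ q) = σ ^ 2 - 1 := fun q hq => by
    rw [dotProduct_sub, dotProduct_smul, dotProduct_comm q r, h q, hq, smul_eq_mul]
    ring
  have hdet : ∀ q : Fin m → K, r ⬝ᵥ q = 1 - σ → (oddTop r q S (-vecMulVec q q)).det = σ ^ 2 := fun q hq => by
    rw [hform, vecMulVec_eq Unit, det_one_add_replicateCol_mul_replicateRow, hdot q hq, add_sub_cancel]
  have hrk2 : r ⬝ᵥ (k + x) = 1 - σ := by rw [dotProduct_add, hrx, add_zero, hrk]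
  refine ⟨k, -vecMulVec k k, k + x, -vecMulVec (k + x) (k + x), oddPair_rank_one _, oddPair_rank_one _,
    fun ν hν => ?_, hdet k hrk, hdet _ hrk2⟩
  rw [hform, hform] at hν
  set a₁ := (-2 : K) • r - S *ᵥ k with ha₁
  set a₂ := (-2 : K) • r - S *ᵥ (k + x) with ha₂
  have hd : (ν - 1) • (1 + vecMulVec a₁ k) = vecMulVec a₂ (k + x) - vecMulVec a₁ k := by
    rw [sub_smul, one_smul, ← hν]; abel
  by_cases hν1 : ν = 1
  · rw [hν1, sub_self, zero_smul] at hd
    obtain ⟨z, hkz, hxz⟩ : ∃ z, k ⬝ᵥ z = 0 ∧ x ⬝ᵥ z ≠ 0 := by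
      by_contra hc
      push Not at hc
      obtain ⟨i', hi'⟩ : ∃ j, k j ≠ 0 := by
        by_contra hj; push Not at hj; exact hk0 (funext hj)
      have hxk : x = (x i' / k i') • k := by
        funext j
        have := hc (k j • Pi.single i' 1 - k i' • Pi.single j 1) (by simp [dotProduct_sub]; ring)
        simp [dotProduct_sub] at this
        simp only [Pi.smul_apply, smul_eq_mul]
        field_simp
        linear_combination -this
      rw [hxk, dotProduct_smul, smul_eq_mul, mul_eq_zero] at hex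
      exact hx0 (by rw [hxk, hex.resolve_right he, zero_smul])
    have := congrArg (· *ᵥ z) hd
    simp only [zero_mulVec, sub_mulVec, vecMulVec_mulVec, op_smul_eq_smul, add_dotProduct, hkz, zero_smul,
      sub_zero, zero_add] at this
    have ha : a₂ = 0 := (smul_eq_zero.1 this.symm).resolve_left hxz
    have := hdot _ hrk2
    rw [← ha₂, ha, dotProduct_zero] at this
    exact hσ (sub_eq_zero.1 this.symm)
  · obtain ⟨y, hy0, hky, hxy⟩ := exists_orth2 hm k x
    have hd0 : (vecMulVec a₂ (k + x) - vecMulVec a₁ k).det = 0 := exists_mulVec_eq_zero_iff.1 ⟨y, hy0, by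
      simp [sub_mulVec, vecMulVec_mulVec, add_dotProduct, hky, hxy]⟩
    rw [← hd, det_smul, ← hform, hdet k hrk] at hd0
    exact mul_ne_zero (pow_ne_zero _ (sub_ne_zero.2 hν1)) (pow_ne_zero 2 hσ0) hd0

end H31.CSQ.Orth
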