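import Cfsg.Agent.H21.ClassSquare.Siegel

/-!
Alternating shears used by the orthogonal instances of the class square argument.
-/

set_option autoImplicit false
set_option linter.unusedSectionVars false

namespace H31.CSQ.Orth

open Matrix

variable {K : Type*} [Field K] {m : ℕ}

/-- Quadratic form identically zero. -/
def Alt (S : Matrix (Fin m) (Fin m) K) : Prop := ∀ y, y ⬝ᵥ S *ᵥ y = 0

theorem Alt.diag {S : Matrix (Fin m) (Fin m) K} (h : Alt S) (i : Fin m) : S i i = 0 := by
  simpa using h (Pi.single i 1)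

theorem Alt.add_dot {S : Matrix (Fin m) (Fin m) K} (h : Alt S) (a b : Fin m → K) :
    a ⬝ᵥ S *ᵥ b + b ⬝ᵥ S *ᵥ a = 0 := by
  have h1 := h (a + b)
  simp only [mulVec_add, add_dotProduct, dotProduct_add, h a, h b, zero_add, add_zero] at h1
  linear_combination h1

theorem Alt.skew {S : Matrix (Fin m) (Fin m) K} (h : Alt S) (i j : Fin m) : S j i = -S i j := by
  have := h.add_dot (Pi.single i 1) (Pi.single j 1)
  simp at this
  linear_combination this

theorem alt_zero : Alt (0 : Matrix (Fin m) (Fin m) K) := fun y => by simp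

theorem Alt.neg {S : Matrix (Fin m) (Fin m) K} (h : Alt S) : Alt (-S) := fun y => by simp [neg_mulVec, h y]

theorem alt_wedge (t : K) (v w : Fin m → K) : Alt (t • (vecMulVec v w - vecMulVec w v)) := fun y => by
  simp [smul_mulVec, sub_mulVec, vecMulVec_mulVec, op_smul_eq_smul, dotProduct_sub, smul_eq_mul,
    dotProduct_comm y v, dotProduct_comm y w]
  ring_nf
  simp

/-- A nonzero vector orthogonal to two given ones. -/
theorem exists_orth2 (hm : 3 ≤ m) (a b : Fin m → K) : ∃ x : Fin m → K, x ≠ 0 ∧ a ⬝ᵥ x = 0 ∧ b ⬝ᵥ x = 0 := by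
  let f : (Fin m → K) →ₗ[K] (Fin 2 → K) := (Matrix.of ![a, b]).mulVecLin
  have h : LinearMap.ker f ≠ ⊥ := fun e => by
    have := LinearMap.finrank_le_finrank_of_injective (LinearMap.ker_eq_bot.1 e)
    simp at this
    omega
  obtain ⟨x, hx, hx0⟩ := Submodule.exists_mem_ne_zero_of_ne_bot h
  exact ⟨x, hx0, congrFun hx 0, congrFun hx 1⟩

theorem det_rank_two (U : Fin m → K) (U' : Fin m → K) (W W' : Fin m → K) :
    (1 + (vecMulVec U W + vecMulVec U' W')).det =
      (1 + W ⬝ᵥ U) * (1 + W' ⬝ᵥ U') - (W ⬝ᵥ U') * (W' ⬝ᵥ U) := by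
  let A : Matrix (Fin m) (Fin 2) K := (Matrix.of ![U, U'])ᵀ
  let B : Matrix (Fin 2) (Fin m) K := Matrix.of ![W, W']
  have e : vecMulVec U W + vecMulVec U' W' = A * B := by
    ext i j
    simp [Matrix.mul_apply, Fin.sum_univ_two, A, B, vecMulVec_apply]
  rw [e, det_one_add_mul_comm, det_fin_two]
  have h00 : (B * A) 0 0 = W ⬝ᵥ U := rfl
  have h01 : (B * A) 0 1 = W ⬝ᵥ U' := rfl
  have h10 : (B * A) 1 0 = W' ⬝ᵥ U := rfl
  have h11 : (B * A) 1 1 = W' ⬝ᵥ U' := rfl
  simp [h00, h01, h10, h11]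

/-- Two alternating shears with prescribed square determinant, not proportional. -/
theorem moves_alt (hm : 3 ≤ m) {S : Matrix (Fin m) (Fin m) K} (hS : Alt S) (hS0 : S ≠ 0) {σ : K} (hσ0 : σ ≠ 0) (hσ : σ ^ 2 ≠ 1) :
    ∃ T₁ T₂ : Matrix (Fin m) (Fin m) K, Alt T₁ ∧ Alt T₂ ∧
      (∀ ν : K, 1 + S * T₂ ≠ ν • (1 + S * T₁)) ∧ (1 + S * T₁).det = σ ^ 2 ∧ (1 + S * T₂).det = σ ^ 2 := by
  classical
  obtain ⟨v, w, ha⟩ : ∃ v w, v ⬝ᵥ S *ᵥ w ≠ 0 := by
    by_contra h; push Not at h
    exact hS0 (ext fun i j => by simpa using h (Pi.single i 1) (Pi.single j 1))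
  set a := v ⬝ᵥ S *ᵥ w with hadef
  have hv0 : v ≠ 0 := fun e => ha (by rw [hadef, e, zero_dotProduct])
  obtain ⟨e, he⟩ : ∃ e, e ⬝ᵥ v ≠ 0 := by
    by_contra h; push Not at h
    exact hv0 (funext fun i => by simpa using h (Pi.single i 1))
  obtain ⟨x, hx0, hbx, hex⟩ := exists_orth2 hm (v ᵥ* S) e
  rw [← dotProduct_mulVec] at hbx
  have hxv : ∀ c : K, x ≠ c • v := fun c hc => by
    rw [hc, dotProduct_smul, smul_eq_mul, mul_eq_zero] at hex
    exact hx0 (by rw [hc, hex.resolve_right he, zero_smul])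
  set t := (1 - σ) / a with ht
  have hta : t * a = 1 - σ := div_mul_cancel₀ _ ha
  let T : (Fin m → K) → Matrix (Fin m) (Fin m) K := fun u => t • (vecMulVec v u - vecMulVec u v)
  have hST : ∀ u, S * T u = vecMulVec (t • S *ᵥ v) u + vecMulVec (t • S *ᵥ u) (-v) := fun u => by
    simp only [T, Matrix.mul_smul, Matrix.mul_sub, mul_vecMulVec]
    rw [Matrix.smul_vecMulVec, Matrix.smul_vecMulVec, Matrix.vecMulVec_neg, smul_neg, ← sub_eq_add_neg, smul_sub]
  have hdet : ∀ u, v ⬝ᵥ S *ᵥ u = a → (1 + S * T u).det = σ ^ 2 := fun u hu => by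
    rw [hST, det_rank_two]
    have e1 : u ⬝ᵥ S *ᵥ v = -a := by linear_combination hS.add_dot u v - hu
    simp only [neg_dotProduct, dotProduct_smul, smul_eq_mul, hS u, hS v, e1, hu]
    linear_combination (t * a - 1 - σ) * hta
  refine ⟨T w, T (w + x), alt_wedge _ _ _, alt_wedge _ _ _, fun ν hν => ?_, hdet _ rfl,
    hdet _ (by rw [mulVec_add, dotProduct_add, hbx, add_zero])⟩
  have hd : (ν - 1) • (1 + S * T w) = S * T x := by
    rw [sub_smul, one_smul, ← hν, add_sub_add_left_eq_sub, ← Matrix.mul_sub]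
    congr 1
    simp only [T, vecMulVec_add, add_vecMulVec, smul_sub, smul_add]
    abel
  obtain ⟨y, hy0, hxy, hvy⟩ := exists_orth2 hm x v
  have ht0 : t ≠ 0 := fun e0 => hσ (by rw [e0, zero_mul] at hta; rw [← sub_eq_zero.1 hta.symm, one_pow])
  by_cases hν1 : ν = 1
  · rw [hν1, sub_self, zero_smul] at hd
    have hSv : S *ᵥ v ≠ 0 := fun e0 => ha (by
      have := hS.add_dot w v
      rw [e0, dotProduct_zero, zero_add] at this
      exact this)
    obtain ⟨z, hz, hxz⟩ : ∃ z, v ⬝ᵥ z = 0 ∧ x ⬝ᵥ z ≠ 0 := by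
      by_contra h
      push Not at h
      obtain ⟨i, hi⟩ : ∃ i, v i ≠ 0 := by
        by_contra h; push Not at h; exact hv0 (funext h)
      refine hxv (x i / v i) (funext fun j => ?_)
      have := h (v j • Pi.single i 1 - v i • Pi.single j 1) (by simp [dotProduct_sub]; ring)
      simp [dotProduct_sub] at this
      simp only [Pi.smul_apply, smul_eq_mul]
      field_simp
      linear_combination -this
    have := congrArg (· *ᵥ z) hd
    simp only [hST, zero_mulVec, add_mulVec, vecMulVec_mulVec, op_smul_eq_smul, neg_dotProduct, hz, neg_zero,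
      zero_smul, add_zero] at this
    exact hSv ((smul_eq_zero.1 ((smul_eq_zero.1 this.symm).resolve_left hxz)).resolve_left ht0)
  · have hd0 : (S * T x).det = 0 := exists_mulVec_eq_zero_iff.1 ⟨y, hy0, by
      simp [hST, add_mulVec, neg_mulVec, smul_mulVec, vecMulVec_mulVec, hxy, hvy]⟩
    rw [← hd, det_smul, hdet w rfl] at hd0
    exact mul_ne_zero (pow_ne_zero _ (sub_ne_zero.2 hν1)) (pow_ne_zero 2 hσ0) hd0

/-- A matrix commuting with every alternating shear in the sense `A S = S B` is `± 1`. -/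
theorem scalar_of_alt (hm : 3 ≤ m) {A B : Matrix (Fin m) (Fin m) K} (hAB : Bᵀ * A = 1)
    (h : ∀ S, Alt S → A * S = S * B) : ∃ a : K, A = a • 1 ∧ a * a = 1 := by
  classical
  have hinj : ∀ z, A *ᵥ z = 0 → z = 0 := fun z hz => by
    rw [← one_mulVec z, ← hAB, ← mulVec_mulVec, hz, mulVec_zero]
  have hBA : B * Aᵀ = 1 := by
    rw [← transpose_transpose B, ← transpose_mul, mul_eq_one_comm.1 hAB, transpose_one]
  have hc : ∀ S, Alt S → A * S * Aᵀ = S := fun S hS => by
    rw [h S hS, Matrix.mul_assoc, hBA, Matrix.mul_one]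
  have hent : ∀ i j k l, A k i * A l j - A k j * A l i =
      (1 : Matrix (Fin m) (Fin m) K) k i * (1 : Matrix (Fin m) (Fin m) K) l j -
        (1 : Matrix (Fin m) (Fin m) K) k j * (1 : Matrix (Fin m) (Fin m) K) l i := fun i j k l => by
    have e := congrFun (congrFun (hc _ (alt_wedge 1 (Pi.single i 1) (Pi.single j 1))) k) l
    simp [Matrix.mul_sub, Matrix.sub_mul, mul_vecMulVec, vecMulVec_mul, vecMul_transpose, vecMulVec_apply] at e
    simpa [Matrix.one_apply, Pi.single_apply] using e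
  have third : ∀ i j : Fin m, ∃ k, k ≠ i ∧ k ≠ j := fun i j => by
    by_contra hk
    push Not at hk
    have := (Finset.card_le_card (fun k _ => by
      by_cases e : k = i
      · simp [e]
      · simp [hk k e] : (Finset.univ : Finset (Fin m)) ⊆ {i, j})).trans Finset.card_le_two
    simp at this
    omega
  have hoff : ∀ k i, k ≠ i → A k i = 0 := fun k i hki => by
    obtain ⟨j, hjk, hji⟩ := third k i
    have h0 : A *ᵥ (A k i • Pi.single j 1 - A k j • Pi.single i 1) = 0 := funext fun l => by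
      have e := hent i j k l
      rw [Matrix.one_apply_ne hki, Matrix.one_apply_ne (Ne.symm hjk)] at e
      simp [mulVec_sub, mulVec_smul]
      linear_combination e
    have := congrFun (hinj _ h0) j
    simpa [Pi.single_apply, hji] using this
  have hd : ∀ i j, i ≠ j → A i i * A j j = 1 := fun i j hij => by
    simpa [Matrix.one_apply, hij, hij.symm, hoff i j hij] using hent i j i j
  have h0 : 0 < m := by omega
  have heq : ∀ i, A i i = A ⟨0, h0⟩ ⟨0, h0⟩ := fun i => by
    by_cases hi : i = ⟨0, h0⟩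
    · rw [hi]
    obtain ⟨k, hk1, hk2⟩ := third i ⟨0, h0⟩
    have e1 := hd i k hk1.symm
    have e2 := hd ⟨0, h0⟩ k hk2.symm
    exact mul_right_cancel₀ (fun e => by rw [e, mul_zero] at e1; exact zero_ne_one e1) (e1.trans e2.symm)
  refine ⟨A ⟨0, h0⟩ ⟨0, h0⟩, ext fun i j => ?_, ?_⟩
  · by_cases hij : i = j
    · subst hij; simp [heq i]
    · simp [hij, hoff i j hij]
  · obtain ⟨k, hk, -⟩ := third ⟨0, h0⟩ ⟨0, h0⟩
    have := hd _ _ hk.symm
    rwa [heq k] at this

end H31.CSQ.Orth
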