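import Cfsg.Agent.H21.ClassSquare.Siegel
import Cfsg.Agent.H31.ClassSq.Shear
import Cfsg.Agent.H31.SpComm.Absorb
import Cfsg.Prelude.Def_Classical

/-!
The symplectic instance of the Siegel class square argument.
-/

set_option autoImplicit false
set_option linter.style.haveILetI false
set_option linter.unusedSectionVars false

namespace H31.CSQ.SP

open Matrix H21.ClassSquare H31.SPC H41 H41.Reg

variable {K : Type*} [Field K] [Fintype K] {n : ℕ}

/-- The symplectic group in `2m` dimensions. -/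
abbrev Sp (m : ℕ) (K : Type*) [Field K] := symplecticGroup (Fin m) K

/-- The matrix of an element, as a unit. -/
noncomputable def mat (m : ℕ) (K : Type*) [Field K] : Sp m K →* GL (Fin m ⊕ Fin m) K :=
  MonoidHom.toHomUnits (symplecticGroup (Fin m) K).subtype

@[simp] theorem coe_mat {m : ℕ} (g : Sp m K) : (mat m K g : Matrix (Fin m ⊕ Fin m) (Fin m ⊕ Fin m) K) = g.1 := rfl

/-- The Siegel data. -/
noncomputable def siegel (m : ℕ) (K : Type*) [Field K] : Siegel (Sp m K) (Fin m ⊕ Fin m) K m where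
  mat := mat m K
  inj g h e := Subtype.ext (congrArg Units.val e)
  ε := Sum.elim (fun _ => 1) fun _ => -1
  e := Sum.inl
  f := Sum.inr
  ε_e _ := rfl
  ε_f _ := rfl
  ε_le x := by cases x <;> simp
  ε_ge x := by cases x <;> simp
  e_surj x hx := by
    cases x with
    | inl i => exact ⟨i, rfl⟩
    | inr i => simp at hx
  e_inj := Sum.inl_injective
  f_inj := Sum.inr_injective
  L := levi
  L_block X x y h := by
    show (levi X).1 x y = 0
    rw [levi_val]
    cases x <;> cases y <;> simp_all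
  L_e X i j := by
    show (levi X).1 (Sum.inl i) (Sum.inl j) = _
    simp [levi_val]

@[simp] theorem siegel_mat {m : ℕ} (g : Sp m K) :
    (((siegel m K).mat g : GL (Fin m ⊕ Fin m) K) : Matrix (Fin m ⊕ Fin m) (Fin m ⊕ Fin m) K) = g.1 := rfl

theorem mem_U {g : Sp (n + 2) K} :
    g ∈ (siegel (n + 2) K).U ↔
      g.1.toBlocks₁₁ = 1 ∧ g.1.toBlocks₂₁ = 0 ∧ g.1.toBlocks₂₂ = 1 := by
  rw [Siegel.mem_U]
  constructor
  · intro h
    refine ⟨?_, ?_, ?_⟩ <;> ext i j
    · simpa [Matrix.toBlocks₁₁, Matrix.one_apply] using h (Sum.inl i) (Sum.inl j) le_rfl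
    · simpa [Matrix.toBlocks₂₁] using h (Sum.inr i) (Sum.inl j) (by simp [siegel])
    · simpa [Matrix.toBlocks₂₂, Matrix.one_apply] using h (Sum.inr i) (Sum.inr j) le_rfl
  · rintro ⟨h1, h2, h3⟩ (x | x) (y | y) hxy
    · simpa [Matrix.one_apply, Matrix.toBlocks₁₁, siegel] using congrFun (congrFun h1 x) y
    · simp [siegel] at hxy
    · simpa [Matrix.toBlocks₂₁, siegel] using congrFun (congrFun h2 x) y
    · simpa [Matrix.one_apply, Matrix.toBlocks₂₂, siegel] using congrFun (congrFun h3 x) y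

theorem mem_V {g : Sp (n + 2) K} :
    g ∈ (siegel (n + 2) K).V ↔
      g.1.toBlocks₁₁ = 1 ∧ g.1.toBlocks₁₂ = 0 ∧ g.1.toBlocks₂₂ = 1 := by
  rw [Siegel.mem_V]
  constructor
  · intro h
    refine ⟨?_, ?_, ?_⟩ <;> ext i j
    · simpa [Matrix.toBlocks₁₁, Matrix.one_apply] using h (Sum.inl i) (Sum.inl j) le_rfl
    · simpa [Matrix.toBlocks₁₂] using h (Sum.inl i) (Sum.inr j) (by simp [siegel])
    · simpa [Matrix.toBlocks₂₂, Matrix.one_apply] using h (Sum.inr i) (Sum.inr j) le_rfl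
  · rintro ⟨h1, h2, h3⟩ (x | x) (y | y) hxy
    · simpa [Matrix.one_apply, Matrix.toBlocks₁₁, siegel] using congrFun (congrFun h1 x) y
    · simpa [Matrix.toBlocks₁₂, siegel] using congrFun (congrFun h2 x) y
    · simp [siegel] at hxy
    · simpa [Matrix.one_apply, Matrix.toBlocks₂₂, siegel] using congrFun (congrFun h3 x) y

/-- An upper unipotent element. -/
def up {m : ℕ} (S : Matrix (Fin m) (Fin m) K) (hS : Sᵀ = S) : Sp m K :=
  ⟨fromBlocks 1 S 0 1, by rw [SymplecticGroup.fromBlocks_mem_iff]; simp [hS]⟩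

/-- A lower unipotent element. -/
def lo {m : ℕ} (S : Matrix (Fin m) (Fin m) K) (hS : Sᵀ = S) : Sp m K :=
  ⟨fromBlocks 1 0 S 1, by rw [SymplecticGroup.fromBlocks_mem_iff]; simp [hS]⟩

theorem up_mem (S : Matrix (Fin (n + 2)) (Fin (n + 2)) K) (hS : Sᵀ = S) : up S hS ∈ (siegel (n + 2) K).U :=
  mem_U.2 (by simp [up])

theorem lo_mem (S : Matrix (Fin (n + 2)) (Fin (n + 2)) K) (hS : Sᵀ = S) : lo S hS ∈ (siegel (n + 2) K).V :=
  mem_V.2 (by simp [lo])

theorem exists_up {g : Sp (n + 2) K} (hg : g ∈ (siegel (n + 2) K).U) :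
    ∃ S hS, g = up S hS := by
  obtain ⟨h1, h2, h3⟩ := mem_U.1 hg
  have he := fromBlocks_toBlocks g.1
  rw [h1, h2, h3] at he
  have hS := (SymplecticGroup.fromBlocks_mem_iff.1 (he ▸ g.2 : fromBlocks 1 g.1.toBlocks₁₂ 0 1 ∈ symplecticGroup (Fin (n + 2)) K)).2.1
  exact ⟨g.1.toBlocks₁₂, by simpa using hS, Subtype.ext he.symm⟩

theorem top_eq (g : Sp (n + 2) K) : (siegel (n + 2) K).top g = g.1.toBlocks₁₁ := by
  ext i j; rfl

theorem top_up_lo {S T : Matrix (Fin (n + 2)) (Fin (n + 2)) K} (hS : Sᵀ = S) (hT : Tᵀ = T) :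
    (siegel (n + 2) K).top (up S hS * lo T hT) = 1 + S * T := by
  rw [top_eq]
  simp [up, lo, fromBlocks_multiply]

theorem diag_ne {c l : Kˣ} (h1 : (c : K) ^ 2 ≠ 1) (h2 : (l : K) ^ 2 ≠ 1) (h3 : (c : K) * l ≠ 1) {N : ℕ}
    (hN : ∀ x : K, x ^ N = 1 → x = 1) (i j : Fin (n + 2)) :
    ((Fin.cons (c ^ N) (fun _ : Fin (n + 1) => l ^ N) : Fin (n + 2) → Kˣ) i : K) *
      ((Fin.cons (c ^ N) (fun _ : Fin (n + 1) => l ^ N) : Fin (n + 2) → Kˣ) j : K) ≠ 1 := by
  induction i using Fin.cases <;> induction j using Fin.cases <;>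
    simp only [Fin.cons_zero, Fin.cons_succ, Units.val_pow_eq_pow_val, ← mul_pow] <;>
    intro h <;> have h' := hN _ h
  · exact h1 (by rw [sq]; exact h')
  · exact h3 h'
  · exact h3 (by rw [mul_comm]; exact h')
  · exact h2 (by rw [sq]; exact h')

theorem levi_diag (d : Fin (n + 2) → Kˣ) :
    (levi (diagU d)).1 = Matrix.diagonal (Sum.elim (fun i => (d i : K)) fun i => (d i : K)⁻¹) := by
  rw [levi_val, ← fromBlocks_diagonal]
  congr 1
  rw [Matrix.coe_units_inv, show (diagU d : Matrix (Fin (n + 2)) (Fin (n + 2)) K) = diagonal fun i => (d i : K) from rfl,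
    Matrix.inv_eq_left_inv (B := diagonal fun i => (d i : K)⁻¹) (by simp [diagonal_mul_diagonal]), diagonal_transpose]

theorem fix {c l : Kˣ} (h1 : (c : K) ^ 2 ≠ 1) (h2 : (l : K) ^ 2 ≠ 1) (h3 : (c : K) * l ≠ 1) {N : ℕ}
    (hN : ∀ x : K, x ^ N = 1 → x = 1) {u : Sp (n + 2) K}
    (hu : u ∈ (siegel (n + 2) K).U ∨ u ∈ (siegel (n + 2) K).V)
    (h : Commute (levi (diagU (Fin.cons (c ^ N) fun _ : Fin (n + 1) => l ^ N))) u) : u = 1 := by
  have he := congrArg Subtype.val h.eq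
  simp only [Submonoid.coe_mul, levi_diag] at he
  refine Subtype.ext (eq_one_of_commute_diagonal he fun x y hxy => ?_)
  have hne := diag_ne (n := n) h1 h2 h3 hN
  have hinv : ∀ a b : K, a ≠ 0 → b ≠ 0 → a = b⁻¹ → a * b = 1 := fun a b _ hb e => by rw [e, inv_mul_cancel₀ hb]
  rcases x with x | x <;> rcases y with y | y <;> simp only [Sum.elim_inl, Sum.elim_inr] at hxy
  · rcases hu with hu | hu
    · exact (Siegel.mem_U _).1 hu _ _ le_rfl
    · exact (Siegel.mem_V _).1 hu _ _ le_rfl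
  · exact absurd (hinv _ _ (Units.ne_zero _) (Units.ne_zero _) hxy) (hne x y)
  · exact absurd (hinv _ _ (Units.ne_zero _) (Units.ne_zero _) hxy.symm) (hne y x)
  · rcases hu with hu | hu
    · exact (Siegel.mem_U _).1 hu _ _ le_rfl
    · exact (Siegel.mem_V _).1 hu _ _ le_rfl

theorem decomp (g : Sp (n + 2) K) (hg : IsUnit ((siegel (n + 2) K).top g).det) :
    ∃ v ∈ (siegel (n + 2) K).V, ∃ X, ∃ u ∈ (siegel (n + 2) K).U, g = v * (siegel (n + 2) K).L X * u := by
  rw [top_eq] at hg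
  set A := g.1.toBlocks₁₁
  set B := g.1.toBlocks₁₂
  have he : fromBlocks A B g.1.toBlocks₂₁ g.1.toBlocks₂₂ = g.1 := fromBlocks_toBlocks _
  have h1 : A * Bᵀ = B * Aᵀ := by
    have ht := SymplecticGroup.transpose_mem g.2
    rw [← he, fromBlocks_transpose, SymplecticGroup.fromBlocks_mem_iff] at ht
    simpa using ht.1
  let X : GL (Fin (n + 2)) K := GeneralLinearGroup.mk'' A hg
  have hS : (A⁻¹ * B)ᵀ = A⁻¹ * B := by
    calc (A⁻¹ * B)ᵀ = (A⁻¹ * A) * (Bᵀ * A⁻¹ᵀ) := by rw [nonsing_inv_mul _ hg, Matrix.one_mul, transpose_mul]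
      _ = A⁻¹ * (A * Bᵀ) * A⁻¹ᵀ := by simp only [Matrix.mul_assoc]
      _ = A⁻¹ * B * (A⁻¹ * A)ᵀ := by rw [h1, transpose_mul]; simp only [Matrix.mul_assoc]
      _ = _ := by rw [nonsing_inv_mul _ hg, transpose_one, Matrix.mul_one]
  set u := up (A⁻¹ * B) hS with hu
  obtain ⟨v, hv⟩ : ∃ v, v = g * (levi X * u)⁻¹ := ⟨_, rfl⟩
  refine ⟨v, ?_, X, u, up_mem _ hS, by show g = v * levi X * u; rw [hv]; group⟩
  have e : v.1 * fromBlocks A B 0 (X⁻¹ : GL (Fin (n + 2)) K).valᵀ = g.1 := by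
    have e0 : v * (levi X * u) = g := by rw [hv]; exact inv_mul_cancel_right g _
    have := congrArg Subtype.val e0
    rw [Submonoid.coe_mul, Submonoid.coe_mul, levi_val, hu] at this
    simpa [up, fromBlocks_multiply, X, mul_nonsing_inv_cancel_left _ _ hg] using this
  have hvb := fromBlocks_toBlocks v.1
  rw [← hvb, fromBlocks_multiply, ← he, fromBlocks_inj] at e
  simp only [Matrix.mul_zero, add_zero] at e
  have hAA : ∀ M N : Matrix (Fin (n + 2)) (Fin (n + 2)) K, M * A = N * A → M = N := fun M N h => by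
    rw [← mul_nonsing_inv_cancel_right A M hg, h, mul_nonsing_inv_cancel_right _ _ hg]
  have v11 : v.1.toBlocks₁₁ = 1 := hAA _ _ (by rw [Matrix.one_mul]; exact e.1)
  have v12 : v.1.toBlocks₁₂ = 0 := by
    have h := e.2.1
    rw [v11, Matrix.one_mul, add_eq_left] at h
    have := congrArg (· * Aᵀ) h
    rw [Matrix.mul_assoc, Matrix.zero_mul] at this
    rw [show (X⁻¹ : GL (Fin (n + 2)) K).valᵀ * Aᵀ = 1 by
      rw [← transpose_mul, ← transpose_one]; exact congrArg transpose X.mul_inv, Matrix.mul_one] at this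
    exact this
  refine mem_V.2 ⟨v11, v12, ?_⟩
  rw [v11, v12] at hvb
  have h3 := (SymplecticGroup.fromBlocks_mem_iff.1 (hvb ▸ v.2 :
    fromBlocks 1 0 v.1.toBlocks₂₁ v.1.toBlocks₂₂ ∈ symplecticGroup (Fin (n + 2)) K)).2.2
  simpa using h3

theorem invert (g : Sp (n + 2) K) :
    ∃ u ∈ (siegel (n + 2) K).U, IsUnit ((siegel (n + 2) K).top (u * g)).det := by
  classical
  set A := g.1.toBlocks₁₁
  set C := g.1.toBlocks₂₁
  have he : fromBlocks A g.1.toBlocks₁₂ C g.1.toBlocks₂₂ = g.1 := fromBlocks_toBlocks _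
  have hsym : (Aᵀ * C).IsSymm := by
    have := (SymplecticGroup.fromBlocks_mem_iff.1 (he ▸ g.2 :
      fromBlocks A g.1.toBlocks₁₂ C g.1.toBlocks₂₂ ∈ symplecticGroup (Fin (n + 2)) K)).1
    unfold Matrix.IsSymm
    rw [transpose_mul, transpose_transpose, this]
  obtain ⟨S, hS, hu⟩ := exists_sym_shear (A := A) (C := C) (fun x hA hC => by
    have h0 : g.1 *ᵥ Sum.elim x 0 = g.1 *ᵥ 0 := by
      rw [← he, fromBlocks_mulVec]
      simp [hA, hC]
    have := congrArg (fun z => (g⁻¹ : Sp (n + 2) K).1 *ᵥ z) h0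
    simp only [mulVec_mulVec, ← Submonoid.coe_mul, inv_mul_cancel, OneMemClass.coe_one, one_mulVec] at this
    exact funext fun i => congrFun this (Sum.inl i)) hsym
  refine ⟨up S hS, up_mem S hS, ?_⟩
  rw [top_eq, Submonoid.coe_mul, ← he]
  simpa [up, fromBlocks_multiply] using hu

theorem exists_three {a b c b' : K} (hK : 9 ≤ Fintype.card K) (ha : a ≠ 0) :
    ∃ r : K, r ≠ 0 ∧ a + r * b + r ^ 2 * c ≠ 0 ∧ a + r * b' ≠ 0 := by
  classical
  let P : Polynomial K := Polynomial.X * (Polynomial.C a + Polynomial.X * Polynomial.C b + Polynomial.X ^ 2 * Polynomial.C c) * (Polynomial.C a + Polynomial.X * Polynomial.C b')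
  by_contra h
  push Not at h
  have hev : ∀ r : K, P.eval r = r * (a + r * b + r ^ 2 * c) * (a + r * b') := fun r => by simp [P]; ring
  have hP : P = 0 := by
    refine Polynomial.eq_zero_of_natDegree_lt_card_of_eval_eq_zero P Function.injective_id (fun r => ?_) ?_
    · rw [id, hev]
      by_cases h1 : r = 0
      · rw [h1]; ring
      by_cases h2 : a + r * b + r ^ 2 * c = 0
      · rw [h2]; ring
      rw [h r h1 h2, mul_zero]
    · have : P.natDegree ≤ 4 := by simp only [P]; compute_degree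
      omega
  simp only [P] at hP
  rcases mul_eq_zero.1 hP with h1 | h1
  · rcases mul_eq_zero.1 h1 with h2 | h2
    · exact Polynomial.X_ne_zero h2
    · exact ha (by simpa using congrArg (Polynomial.eval 0) h2)
  · exact ha (by simpa using congrArg (Polynomial.eval 0) h1)

theorem det_rank_one (t : K) (w v : Fin (n + 2) → K) :
    (1 + t • vecMulVec w v).det = 1 + t * (v ⬝ᵥ w) := by
  rw [← Matrix.smul_vecMulVec, vecMulVec_eq Unit, det_one_add_replicateCol_mul_replicateRow, dotProduct_smul,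
    smul_eq_mul]

theorem exists_orth (v : Fin (n + 2) → K) : ∃ x : Fin (n + 2) → K, x ≠ 0 ∧ v ⬝ᵥ x = 0 := by
  by_cases h : v 0 = 0
  · exact ⟨Pi.single 0 1, fun e => one_ne_zero (α := K) (by simpa using congrFun e 0), by simp [h]⟩
  · refine ⟨v 1 • Pi.single 0 1 - v 0 • Pi.single 1 1, fun e => h ?_, ?_⟩
    · simpa using congrFun e 1
    · simp [dotProduct_sub]; ring

/-- Two shears with a prescribed determinant, not proportional. -/
theorem moves_shear (hK : 9 ≤ Fintype.card K) {S : Matrix (Fin (n + 2)) (Fin (n + 2)) K} (hS : Sᵀ = S)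
    (hS0 : S ≠ 0) {s : K} (hs0 : s ≠ 0) (hs1 : s ≠ 1) :
    ∃ T₁ T₂ : Matrix (Fin (n + 2)) (Fin (n + 2)) K, T₁ᵀ = T₁ ∧ T₂ᵀ = T₂ ∧
      (∀ ν : K, 1 + S * T₂ ≠ ν • (1 + S * T₁)) ∧ (1 + S * T₁).det = s ∧ (1 + S * T₂).det = s := by
  classical
  have hsymm : ∀ a b, b ⬝ᵥ S *ᵥ a = a ⬝ᵥ S *ᵥ b := fun a b => by
    rw [dotProduct_mulVec, ← mulVec_transpose, hS, dotProduct_comm]
  have hsv : ∀ v : Fin (n + 2) → K, (vecMulVec v v)ᵀ = vecMulVec v v := fun v => transpose_vecMulVec v v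
  by_cases hQ : ∃ v, v ⬝ᵥ S *ᵥ v ≠ 0
  · obtain ⟨v, hv⟩ := hQ
    obtain ⟨w, hw⟩ : ∃ w, ∀ a : K, w ≠ a • v := by
      obtain ⟨x, hx, hx0⟩ := exists_orth v
      by_cases hvv : ∀ a : K, x ≠ a • v
      · exact ⟨x, hvv⟩
      push Not at hvv
      obtain ⟨a, rfl⟩ := hvv
      obtain ⟨i, hi⟩ : ∃ i, v i ≠ 0 := by
        by_contra h; push Not at h
        exact hv (by rw [show v = 0 from funext h, zero_dotProduct])
      obtain ⟨j, hij⟩ := exists_ne i
      refine ⟨Pi.single j 1, fun b e => ?_⟩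
      have := congrFun e i
      rw [Pi.single_apply, if_neg hij.symm] at this
      rcases mul_eq_zero.1 (show b * v i = 0 by simpa using this.symm) with hb | hb
      · have := congrFun e j; simp [hb] at this
      · exact hi hb
    obtain ⟨r, hr0, hr1, hr2⟩ := exists_three (b := 2 * (v ⬝ᵥ S *ᵥ w)) (c := w ⬝ᵥ S *ᵥ w)
      (b' := v ⬝ᵥ S *ᵥ w) hK hv
    set v' := v + r • w with hv'
    have hQ' : v' ⬝ᵥ S *ᵥ v' ≠ 0 := by
      convert hr1 using 1
      simp [hv', add_dotProduct, mulVec_add, dotProduct_add, mulVec_smul, hsymm v w]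
      ring
    have hB : v' ⬝ᵥ S *ᵥ v ≠ 0 := by
      convert hr2 using 1
      simp [hv', add_dotProduct, hsymm v w]
    have hdet : ∀ v : Fin (n + 2) → K, v ⬝ᵥ S *ᵥ v ≠ 0 →
        (1 + S * (((s - 1) / (v ⬝ᵥ S *ᵥ v)) • vecMulVec v v)).det = s := fun v hv => by
      rw [Matrix.mul_smul, mul_vecMulVec, det_rank_one, div_mul_cancel₀ _ hv, add_sub_cancel]
    refine ⟨((s - 1) / (v' ⬝ᵥ S *ᵥ v')) • vecMulVec v' v', ((s - 1) / (v ⬝ᵥ S *ᵥ v)) • vecMulVec v v,
      by rw [transpose_smul, hsv], by rw [transpose_smul, hsv], fun ν he => ?_, hdet v' hQ', hdet v hv⟩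
    simp only [Matrix.mul_smul, mul_vecMulVec] at he
    have hx : ∀ x, v' ⬝ᵥ x = 0 →
        ((s - 1) / (v ⬝ᵥ S *ᵥ v) * (v ⬝ᵥ x)) • S *ᵥ v = (ν - 1) • x := by
      intro x hx
      have := congrArg (· *ᵥ x) he
      simp only [add_mulVec, one_mulVec, smul_mulVec, vecMulVec_mulVec, hx,
        op_smul_eq_smul, zero_smul, smul_zero, add_zero, smul_smul] at this
      rw [sub_smul, one_smul, ← this]; abel
    by_cases hν : ν = 1
    · obtain ⟨i, hi⟩ : ∃ i, v' i ≠ 0 := by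
        by_contra h; push Not at h
        exact hQ' (by rw [show v' = 0 from funext h, zero_dotProduct])
      have hprop : v = (v i / v' i) • v' := by
        funext j
        have h := hx (v' j • Pi.single i 1 - v' i • Pi.single j 1) (by simp [dotProduct_sub]; ring)
        rw [hν, sub_self, zero_smul] at h
        have hz : S *ᵥ v ≠ 0 := fun e => hv (by rw [e, dotProduct_zero])
        have := (smul_eq_zero.1 h).resolve_right hz
        rw [mul_eq_zero, div_eq_zero_iff] at this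
        have := this.resolve_left (by simp [sub_eq_zero, hs1, hv])
        simp [dotProduct_sub] at this
        simp only [Pi.smul_apply, smul_eq_mul]
        field_simp
        linear_combination -this
      generalize v i / v' i = ρ at hprop
      have h1 : ρ ≠ 0 := fun e => hv (by rw [hprop, e, zero_smul, zero_dotProduct])
      have hv2 : v' = ρ⁻¹ • v := by rw [hprop, smul_smul, inv_mul_cancel₀ h1, one_smul]
      refine hw (r⁻¹ * (ρ⁻¹ - 1)) ?_
      have hrw : r • w = (ρ⁻¹ - 1) • v := by rw [sub_smul, one_smul, ← hv2, hv', add_sub_cancel_left]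
      rw [← smul_smul, ← hrw, smul_smul, inv_mul_cancel₀ hr0, one_smul]
    · obtain ⟨x, hx0, hxo⟩ := exists_orth v'
      have h := hx x hxo
      have hx' : x = ((ν - 1)⁻¹ * ((s - 1) / (v ⬝ᵥ S *ᵥ v) * (v ⬝ᵥ x))) • S *ᵥ v := by
        rw [← smul_smul, h, smul_smul, inv_mul_cancel₀ (sub_ne_zero.2 hν), one_smul]
      rw [hx', dotProduct_smul, smul_eq_mul, mul_eq_zero] at hxo
      have := hxo.resolve_right hB
      rw [this, zero_smul] at hx'
      exact hx0 hx'
  · push Not at hQ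
    have h2 : (2 : K) = 0 := by
      by_contra h2
      refine hS0 (ext fun i j => ?_)
      have e : S j i = S i j := congrFun (congrFun hS i) j
      have h' := hQ (Pi.single i 1)
      have h'' := hQ (Pi.single j 1)
      have := hQ (Pi.single i 1 + Pi.single j 1)
      simp at h' h''
      simp [add_dotProduct, mulVec_add] at this
      rw [h', h'', e] at this
      have : 2 * S i j = 0 := by linear_combination this
      exact (mul_eq_zero.1 this).resolve_left h2
    obtain ⟨v, w, ha⟩ : ∃ v w, v ⬝ᵥ S *ᵥ w ≠ 0 := by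
      by_contra h; push Not at h
      exact hS0 (ext fun i j => by simpa using h (Pi.single i 1) (Pi.single j 1))
    set a := v ⬝ᵥ S *ᵥ w
    haveI : CharP K 2 := CharTwo.of_one_ne_zero_of_two_eq_zero one_ne_zero h2
    obtain ⟨σ, hσ⟩ : ∃ σ : K, σ * σ = s := by
      obtain ⟨σ, hσ⟩ := FiniteField.isSquare_of_char_two (ringChar.eq K 2) s
      exact ⟨σ, hσ.symm⟩
    set t := (σ - 1) / a
    let T : K → Matrix (Fin (n + 2)) (Fin (n + 2)) K := fun r =>
      t • (vecMulVec v w + vecMulVec w v) + r • vecMulVec v v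
    have hT : ∀ r, (T r)ᵀ = T r := fun r => by
      simp [T, transpose_vecMulVec, add_comm]
    have hdet : ∀ r, (1 + S * T r).det = s := fun r => by
      let U : Matrix (Fin (n + 2)) (Fin 2) K := (Matrix.of ![S *ᵥ v, S *ᵥ w])ᵀ
      let W : Matrix (Fin 2) (Fin (n + 2)) K := Matrix.of ![r • v + t • w, t • v]
      have hUW : S * T r = U * W := by
        simp only [T, Matrix.mul_add, Matrix.mul_smul, mul_vecMulVec]
        ext i j
        simp [Matrix.mul_apply, Fin.sum_univ_two, U, W, vecMulVec_apply]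
        ring
      rw [hUW, det_one_add_mul_comm, det_fin_two]
      have e00 : (W * U) 0 0 = (r • v + t • w) ⬝ᵥ S *ᵥ v := rfl
      have e01 : (W * U) 0 1 = (r • v + t • w) ⬝ᵥ S *ᵥ w := rfl
      have e10 : (W * U) 1 0 = (t • v) ⬝ᵥ S *ᵥ v := rfl
      have e11 : (W * U) 1 1 = (t • v) ⬝ᵥ S *ᵥ w := rfl
      simp [e00, e01, e10, e11, add_dotProduct, hQ, hsymm v w, t, a] at ha ⊢
      rw [← hσ]
      field_simp
      ring
    refine ⟨T 0, T 1, hT 0, hT 1, fun ν he => ?_, hdet 0, hdet 1⟩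
    have hd : (ν - 1) • (1 + S * T 0) = vecMulVec (S *ᵥ v) v := by
      rw [sub_smul, one_smul, ← he, add_sub_add_left_eq_sub]
      simp [T, Matrix.mul_add, mul_vecMulVec]
    by_cases hν : ν = 1
    · rw [hν, sub_self, zero_smul] at hd
      obtain ⟨i, hi⟩ : ∃ i, (S *ᵥ v) i ≠ 0 := by
        by_contra h; push Not at h
        exact ha (by show v ⬝ᵥ S *ᵥ w = 0; rw [hsymm, show S *ᵥ v = 0 from funext h, dotProduct_zero])
      obtain ⟨j, hj⟩ : ∃ j, v j ≠ 0 := by
        by_contra h; push Not at h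
        exact ha (by show v ⬝ᵥ S *ᵥ w = 0; rw [show v = 0 from funext h, zero_dotProduct])
      exact mul_ne_zero hi hj (congrFun (congrFun hd i) j).symm
    · obtain ⟨x, hx0, hx⟩ := exists_orth v
      have hd0 : (vecMulVec (S *ᵥ v) v).det = 0 :=
        exists_mulVec_eq_zero_iff.1 ⟨x, hx0, by simp [vecMulVec_mulVec, hx]⟩
      rw [← hd, det_smul, hdet 0] at hd0
      exact mul_ne_zero (pow_ne_zero _ (sub_ne_zero.2 hν)) hs0 hd0

theorem central {X : GL (Fin (n + 2)) K} (h : ∀ u ∈ (siegel (n + 2) K).U, Commute (levi X) u)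
    (g : Sp (n + 2) K) : Commute (levi X) g := by
  classical
  set A := X.val
  set B := (X⁻¹ : GL (Fin (n + 2)) K).valᵀ
  have hc : ∀ S : Matrix (Fin (n + 2)) (Fin (n + 2)) K, Sᵀ = S → A * S = S * B := fun S hS => by
    have := congrArg Subtype.val (h _ (up_mem S hS)).eq
    simp [levi_val, up, fromBlocks_multiply] at this
    simpa [A, B, Matrix.coe_units_inv] using this
  have hB : B = A := by simpa using (hc 1 transpose_one).symm
  rw [hB] at hc
  have hdiag : ∀ i j, i ≠ j → A i j = 0 := fun i j hij => by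
    have := congrFun (congrFun (hc (single j j 1) (by simp [transpose_single])) i) j
    simpa [hij] using this
  have heq : ∀ i j, i ≠ j → A i i = A j j := fun i j hij => by
    have := congrFun (congrFun (hc (single i j 1 + single j i 1) (by simp [transpose_single, add_comm])) i) j
    simpa [Matrix.mul_add, Matrix.add_mul, hij, hij.symm] using this
  have hA : A = A 0 0 • 1 := ext fun i j => by
    by_cases hij : i = j
    · subst hij
      by_cases hi : i = 0
      · simp [hi]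
      · simpa using heq i 0 hi
    · simp [hij, hdiag i j hij]
  apply Subtype.ext
  simp only [Submonoid.coe_mul, levi_val]
  rw [show X.val = A from rfl, show (X⁻¹ : GL (Fin (n + 2)) K).valᵀ = B from rfl, hB, hA,
    show fromBlocks (A 0 0 • (1 : Matrix (Fin (n + 2)) (Fin (n + 2)) K)) 0 0 (A 0 0 • 1) = A 0 0 • 1 by
      rw [← fromBlocks_one, fromBlocks_smul, smul_zero]]
  simp

/-- The Weyl element exchanging the two radicals. -/
def wJ : Sp (n + 2) K := ⟨J (Fin (n + 2)) K, SymplecticGroup.J_mem _ _⟩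

/-- Inverse transpose. -/
noncomputable def trInv (X : GL (Fin (n + 2)) K) : GL (Fin (n + 2)) K where
  val := (X⁻¹ : GL (Fin (n + 2)) K).valᵀ
  inv := X.valᵀ
  val_inv := by rw [← transpose_mul, X.mul_inv, transpose_one]
  inv_val := by rw [← transpose_mul, X.inv_mul, transpose_one]

theorem conj_wJ_levi (X : GL (Fin (n + 2)) K) : (wJ : Sp (n + 2) K) * levi X * wJ⁻¹ = levi (trInv X) := by
  rw [mul_inv_eq_iff_eq_mul]
  apply Subtype.ext
  simp [wJ, levi_val, trInv, J, fromBlocks_multiply, Units.inv_mk]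

theorem conj_wJ_V {v : Sp (n + 2) K} (hv : v ∈ (siegel (n + 2) K).V) :
    (wJ : Sp (n + 2) K) * v * wJ⁻¹ ∈ (siegel (n + 2) K).U := by
  obtain ⟨h1, h2, h3⟩ := mem_V.1 hv
  have he := fromBlocks_toBlocks v.1
  rw [h1, h2, h3] at he
  have hS : (-v.1.toBlocks₂₁)ᵀ = -v.1.toBlocks₂₁ := by
    have := (SymplecticGroup.fromBlocks_mem_iff.1 (he ▸ v.2 :
      fromBlocks 1 0 v.1.toBlocks₂₁ 1 ∈ symplecticGroup (Fin (n + 2)) K)).1
    simpa using this.symm
  have e : (wJ : Sp (n + 2) K) * v * wJ⁻¹ = up _ hS := by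
    rw [mul_inv_eq_iff_eq_mul]
    apply Subtype.ext
    simp only [Submonoid.coe_mul, wJ, up]
    nth_rw 1 [← he]
    simp [wJ, up, J, fromBlocks_multiply]
  rw [e]
  exact up_mem _ _

theorem hyp (hK : 9 ≤ Fintype.card K) {c l : Kˣ} (hcl : c ≠ l) (h1 : (c : K) ^ 2 ≠ 1) (h2 : (l : K) ^ 2 ≠ 1)
    (h3 : (c : K) * l ≠ 1) :
    Siegel.Hyp (siegel (n + 2) K) ⊤ c l ⊤ where
  normal := inferInstance
  comm_le := le_top
  sq_mem _ := trivial
  ne := hcl
  cls_mem := trivial
  fixU _ hN _ hu h := fix h1 h2 h3 hN (Or.inl hu) h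
  fixV _ hN _ hu h := fix h1 h2 h3 hN (Or.inr hu) h
  det_mem _ _ _ _ := trivial
  decomp g _ hg := decomp g hg
  invert g _ := invert g
  ur_inj u hu h := by
    obtain ⟨S, hS, rfl⟩ := exists_up hu
    have hS0 : S = 0 := by
      ext i j; exact congrFun (congrFun h i) j
    subst hS0
    exact Subtype.ext (by simp [up])
  moves u hu hu1 s _ hs1 := by
    obtain ⟨S, hS, rfl⟩ := exists_up hu
    have hS0 : S ≠ 0 := fun e => hu1 (by subst e; exact Subtype.ext (by simp [up]))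
    obtain ⟨T₁, T₂, hT₁, hT₂, hne, hd₁, hd₂⟩ := moves_shear hK hS hS0 s.ne_zero
      (fun e => hs1 (Units.ext e))
    exact ⟨lo T₁ hT₁, lo_mem _ _, lo T₂ hT₂, lo_mem _ _, by simpa only [top_up_lo] using hne,
      by rw [top_up_lo]; exact hd₁, by rw [top_up_lo]; exact hd₂⟩
  central _ _ h g _ := central h g
  opp := ⟨wJ, fun v hv => conj_wJ_V hv, fun X => ⟨trInv X, conj_wJ_levi X⟩, wJ, trivial, rfl⟩

theorem isConj_trInv_jordan (m : ℕ) :
    ∃ P : GL (Fin (m + 1)) K, P * jordanGL K (m + 1) * P⁻¹ =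
      ⟨(jordanGL K (m + 1)).valᵀ, ((jordanGL K (m + 1))⁻¹ : GL (Fin (m + 1)) K).valᵀ,
        by rw [← transpose_mul, Units.inv_mul, transpose_one],
        by rw [← transpose_mul, Units.mul_inv, transpose_one]⟩ :=
  isConj_iff.1 (isConj_jordan_lower (Nat.succ_pos m)
    ⟨⟨fun i j h => (jordan_reg (K := K)).1.1 j i h, fun i => (jordan_reg (K := K)).1.2 i⟩,
      fun i j h => (jordan_reg (K := K)).2 j i h⟩)

/-- The class and its transpose are conjugate. -/
theorem isConj_cls_transpose (c l : Kˣ) :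
    IsConj (cls c l (n + 1)) (trInv (cls c l (n + 1)))⁻¹ := by
  obtain ⟨P, hP⟩ := isConj_trInv_jordan (K := K) n
  refine isConj_iff.2 ⟨cornerHom (1, P), ?_⟩
  rw [cls, ← map_inv, ← map_mul, ← map_mul, Prod.inv_mk, Prod.mk_mul_mk, Prod.mk_mul_mk, one_mul, inv_one, mul_one,
    ← mul_assoc, ← (scal_comm l P).eq, mul_assoc (scal l), mul_assoc, hP]
  apply Units.ext
  show _ = ((cornerHom (c, scal l * jordanGL K (n + 1)) : GL (Fin (n + 2)) K).val)ᵀ
  rw [coe_cornerHom, coe_cornerHom]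
  ext i j
  cases i using Fin.cases <;> cases j using Fin.cases <;> simp [Matrix.transpose_apply]

theorem hreal (hK : 9 ≤ Fintype.card K) {c l : Kˣ} (hcl : c ≠ l) (h1 : (c : K) ^ 2 ≠ 1) (h2 : (l : K) ^ 2 ≠ 1)
    (h3 : (c : K) * l ≠ 1) :
    IsConj (Siegel.cG (hyp (n := n) hK hcl h1 h2 h3)) (Siegel.cG (hyp (n := n) hK hcl h1 h2 h3))⁻¹ := by
  have h : IsConj (levi (cls c l (n + 1))) (levi (cls c l (n + 1)))⁻¹ := by
    refine (MonoidHom.map_isConj levi (isConj_cls_transpose c l)).trans ?_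
    rw [map_inv, ← conj_wJ_levi]
    exact isConj_iff.2 ⟨(wJ : Sp (n + 2) K)⁻¹, by group⟩
  obtain ⟨a, ha⟩ := isConj_iff.1 h
  exact isConj_iff.2 ⟨⟨a, trivial⟩, Subtype.ext ha⟩

theorem exists_params (hK : 9 ≤ Fintype.card K) :
    ∃ c l : Kˣ, c ≠ l ∧ (c : K) ^ 2 ≠ 1 ∧ (l : K) ^ 2 ≠ 1 ∧ (c : K) * l ≠ 1 := by
  classical
  obtain ⟨l, hl⟩ := exists_sq_ne_one (K := K) (by omega)
  have hl0 := l.ne_zero
  obtain ⟨c, hc⟩ : ∃ c : K, c ∉ ({0, 1, -1} ∪ {(l : K), (l : K)⁻¹} : Finset K) := by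
    by_contra h
    push Not at h
    have := (Finset.card_le_card (fun x _ => h x : (Finset.univ : Finset K) ⊆ _)).trans (Finset.card_union_le _ _)
    rw [Finset.card_univ] at this
    have := Finset.card_le_three (a := (0 : K)) (b := 1) (c := -1)
    have := Finset.card_le_two (a := (l : K)) (b := (l : K)⁻¹)
    omega
  simp only [Finset.mem_union, Finset.mem_insert, Finset.mem_singleton, not_or] at hc
  obtain ⟨⟨hc0, hc1, hc2⟩, hcl, hcl'⟩ := hc
  refine ⟨Units.mk0 c hc0, l, fun e => hcl (congrArg Units.val e), fun e => ?_, hl, fun e => hcl' (eq_inv_of_mul_eq_one_left e)⟩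
  rcases sq_eq_one_iff.1 e with e | e
  · exact hc1 e
  · exact hc2 e

/-- Thompson's class square for `PSp`. -/
theorem psp_square (hK : 9 ≤ Fintype.card K) {m : ℕ} (hm : 2 ≤ m) {G : Type*} [Group G] (e : G ≃* Cfsg.PSp m K) :
    ∃ c : G, ∀ g : G, ∃ x y : G, g = (x * c * x⁻¹) * (y * c * y⁻¹) := by
  obtain ⟨n, rfl⟩ : ∃ n, m = n + 2 := ⟨m - 2, by omega⟩
  obtain ⟨c, l, hcl, h1, h2, h3⟩ := exists_params hK
  let f : (⊤ : Subgroup (Sp (n + 2) K)) ≃* Sp (n + 2) K := Subgroup.topEquiv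
  refine Siegel.square (hyp (n := n) hK hcl h1 h2 h3) hK (hreal hK hcl h1 h2 h3)
    (e.trans (QuotientGroup.congr (Subgroup.center (⊤ : Subgroup (Sp (n + 2) K))) _ f ?_).symm)
  ext x
  simp only [Subgroup.mem_map, Subgroup.mem_center_iff, MonoidHom.coe_coe]
  constructor
  · rintro ⟨y, hy, rfl⟩ z
    simpa [f] using congrArg f (hy ⟨z, trivial⟩)
  · intro h
    exact ⟨⟨x, trivial⟩, fun z => Subtype.ext (h z.1), rfl⟩

end H31.CSQ.SP
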